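/-
Simple groups of conjugate type rank five (S3194): definitions and the statements of the jobs.
-/
import Cfsg.Agent.Rk4.Defs
import Cfsg.Agent.Char.Burnside
import Cfsg.Agent.S0028
import Cfsg.Agent.Grp.Fitting

set_option autoImplicit false

universe u

namespace CL.Rk5

open Subgroup Cfsg CL.Grp CL.Fgs CL.Cit CL.Rk4
open scoped MatrixGroups Classical

/-- there are six different orders of centralizers of non-identity elements -/
def Rank6 (G : Type*) [Group G] : Prop :=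
  6 ≤ {n : ℕ | ∃ x : G, x ≠ 1 ∧ Nat.card cent(x) = n}.ncard

/-- a 2-central involution commuting with an element of odd prime order, and a 2-element whose
centralizer is a 2-group -/
def Ev (G : Type*) [Group G] : Prop :=
  (∃ (t : G) (s : ℕ), orderOf t = 2 ∧ ¬ 2 ∣ cs(t) ∧ s.Prime ∧ s ≠ 2 ∧ s ∣ Nat.card cent(t)) ∧
    ∃ v : G, v ≠ 1 ∧ ∀ p : ℕ, p.Prime → p ∣ Nat.card cent(v) → p = 2

/-- two minimal class sizes `n₁`, `n₂` -/
structure H2 (G : Type*) [Group G] (n₁ n₂ : ℕ) : Prop where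
  nas : NAS G
  ex₁ : ∃ x : G, x ≠ 1 ∧ cs(x) = n₁
  ex₂ : ∃ x : G, x ≠ 1 ∧ cs(x) = n₂
  head₁ : ∀ x : G, x ≠ 1 → cs(x) ∣ n₁ → cs(x) = n₁
  head₂ : ∀ x : G, x ≠ 1 → cs(x) ∣ n₂ → cs(x) = n₂
  below : ∀ x : G, x ≠ 1 → n₁ ∣ cs(x) ∨ n₂ ∣ cs(x)

/-- the first consequences of `H2` -/
structure H2P (G : Type*) [Group G] (n₁ n₂ : ℕ) : Prop extends H2 G n₁ n₂ where
  lt₁ : 1 < n₁
  lt₂ : 1 < n₂
  cop : n₁.Coprime n₂
  two₁ : ∀ l : ℕ, ∃ p : ℕ, p.Prime ∧ p ≠ l ∧ p ∣ n₁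
  two₂ : ∀ l : ℕ, ∃ p : ℕ, p.Prime ∧ p ≠ l ∧ p ∣ n₂
  ncomm : ∀ x y : G, cs(x) = n₁ → cs(y) = n₂ → ¬ Commute x y
  ord₁ : ∀ (x : G) (r : ℕ), cs(x) = n₁ → r.Prime → r ∣ orderOf x → r ∣ n₂
  ord₂ : ∀ (y : G) (s : ℕ), cs(y) = n₂ → s.Prime → s ∣ orderOf y → s ∣ n₁
  exp₁ : ∃ x : G, (orderOf x).Prime ∧ cs(x) = n₁
  exp₂ : ∃ y : G, (orderOf y).Prime ∧ cs(y) = n₂

/-- at most five class sizes -/
def Five (G : Type*) [Group G] (n₁ n₂ a b c : ℕ) : Prop :=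
  ∀ x : G, x ≠ 1 → cs(x) = n₁ ∨ cs(x) = n₂ ∨ cs(x) = a ∨ cs(x) = b ∨ cs(x) = c

/-- Lemma X for rank five -/
def LX5 (G : Type*) [Group G] (n₁ n₂ : ℕ) : Prop :=
  LX G n₁ n₂ ∨ (∀ z : G, z ≠ 1 → cs(z) ≠ n₂ → n₁ ∣ cs(z)) ∨ ∀ z : G, z ≠ 1 → cs(z) ≠ n₁ → n₂ ∣ cs(z)

/-- `|G| = n₁ n₂`, `n₁` odd, at most one further class size divisible by `n₂` -/
structure AL (G : Type*) [Group G] (n₁ n₂ c : ℕ) : Prop extends H2P G n₁ n₂ where
  card : Nat.card G = n₁ * n₂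
  even : 2 ∣ n₂
  one : ∀ z : G, z ≠ 1 → n₂ ∣ cs(z) → cs(z) = n₂ ∨ cs(z) = c

/-- the nilpotent case -/
structure NB {G : Type*} [Group G] (n₁ n₂ : ℕ) (B K : Subgroup G) : Prop where
  nas : NAS G
  card : Nat.card G = n₁ * n₂
  cop : n₁.Coprime n₂
  even : 2 ∣ n₂
  two₁ : ∀ l : ℕ, ∃ p : ℕ, p.Prime ∧ p ≠ l ∧ p ∣ n₁
  cardB : Nat.card B = n₁
  nil : Group.IsNilpotent B
  cc : ∀ g ∈ B, g ≠ 1 → cent(g) ≤ B
  ti : IsTISubset (B : Set G)
  lt : B < normalizer (B : Set G)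
  K_ne : K ≠ ⊥
  K_lt : K < B
  K_norm : normalizer (B : Set G) ≤ normalizer (K : Set G)

/-- the other case: the elements of class size `n₂` are `s`-elements -/
structure BB (G : Type*) [Group G] (n₁ n₂ c s : ℕ) : Prop extends AL G n₁ n₂ c where
  prime : s.Prime
  dvd : s ∣ n₁
  sel : ∀ y : G, cs(y) = n₂ → IsPiElt {s} y

/-- first consequences of `BB` -/
structure BP (G : Type*) [Group G] (n₁ n₂ c s : ℕ) : Prop extends BB G n₁ n₂ c s where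
  pow : ∃ k : ℕ, 1 ≤ k ∧ c = s ^ k * n₂
  ab : ∀ g : G, cs(g) = c → ∀ h ∈ cent(g), cent(g) ≤ cent(h)
  solv : ∀ y : G, cs(y) = n₂ → Group.IsSolvable cent(y)

/-- centralizers of class size `n₂` are self-normalizing -/
def SelfN (G : Type*) [Group G] (n₂ : ℕ) : Prop :=
  ∀ y : G, cs(y) = n₂ → normalizer (cent(y) : Set G) ≤ cent(y)

/-- all `s`-local subgroups have odd order -/
def OddLoc (G : Type*) [Group G] (s : ℕ) : Prop :=
  ∀ X : Subgroup G, X ≠ ⊥ → IsPGroup s X → Odd (Nat.card (normalizer (X : Set G)))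

/-- all `s`-subgroups are abelian -/
def AbP (G : Type*) [Group G] (s : ℕ) : Prop :=
  ∀ X : Subgroup G, IsPGroup s X → X ≤ centralizer (X : Set G)

/-- the final configuration of the case `BB` -/
structure AbS {G : Type*} [Group G] (s : ℕ) (S S₀ H B : Subgroup G) : Prop where
  prime : s.Prime
  syl : IsSylowIn s S ⊤
  ab : S ≤ centralizer (S : Set G)
  ne : S₀ ≠ ⊥
  lt : S₀ < S
  H_ne : H ≠ ⊥
  norm : S ≤ normalizer (H : Set G)
  inf : S ⊓ centralizer (H : Set G) = S₀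
  fpf : ∀ g ∈ S, ∀ v ∈ H, v ≠ 1 → Commute g v → g ∈ S₀
  cen : ∀ w ∈ S₀, w ≠ 1 → cent(w) = B
  selfn : normalizer (B : Set G) ≤ B
  nb : normalizer (S : Set G) ⊓ B ≤ S
  cover : ∀ w ∈ S, ∃ g : G, g * w * g⁻¹ ∈ S₀
  odd : Odd (Nat.card (normalizer (S : Set G)))

/-- the rank of the action on the cosets of `A` -/
noncomputable def rank {G : Type*} [Group G] (A : Subgroup G) : ℕ :=
  Nat.card (MulAction.orbitRel.Quotient A (G ⧸ A))

/-- `C(x)` is transitive on the other conjugates of `x` -/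
def Tr {G : Type*} [Group G] (x : G) : Prop :=
  ∀ g h : G, g ∉ cent(x) → h ∉ cent(x) → ∃ a ∈ cent(x), a * (g * x * g⁻¹) * a⁻¹ = h * x * h⁻¹

/-- `x` commutes with no other conjugate -/
def Iso {G : Type*} [Group G] (x : G) : Prop :=
  ∀ g : G, Commute x (g * x * g⁻¹) → g * x * g⁻¹ = x

/-! ### the jobs -/

def JTri5 : Prop := ∀ (G : Type u) [Group G] [Finite G], NAS G →
  Set.ncard {m : ℕ | ∃ x : G, x ∉ center G ∧ m = cs(x)} = 5 →
  Set.ncard {a : ℕ | a ∈ {m : ℕ | ∃ x : G, x ∉ center G ∧ m = cs(x)} ∧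
    ∀ c ∈ {m : ℕ | ∃ x : G, x ∉ center G ∧ m = cs(x)}, c ∣ a → c = a} ≠ 3 →
  (∃ c, CH G c) ∨ ∃ n₁ n₂ a b c, H2 G n₁ n₂ ∧ Five G n₁ n₂ a b c

def JLX5 : Prop := ∀ (G : Type u) [Group G] [Finite G] (n₁ n₂ a b c : ℕ), H2P G n₁ n₂ →
  Five G n₁ n₂ a b c → LX5 G n₁ n₂

/-- the trick lemma -/
def JT : Prop := ∀ (G : Type u) [Group G] [Finite G] (n₁ n₂ m : ℕ), H2P G n₁ n₂ →
  Nat.card G = m * (n₁ * n₂) → ∀ x y : G, (orderOf x).Prime → (orderOf y).Prime → cs(x) = n₁ →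
  cs(y) = n₂ → orderOf y ∣ m → orderOf x ∣ m ∧ ∃ w : G, w ≠ 1 ∧ IsPiElt {orderOf y} w ∧
    Commute w x ∧ ¬ n₁ ∣ cs(w) ∧ cs(w) ≠ n₂ ∧ n₁ * n₂ ∣ cs(w * x)

def JM5 : Prop := JT.{u} → ∀ (G : Type u) [Group G] [Finite G] (n₁ n₂ a b c : ℕ), H2P G n₁ n₂ →
  Five G n₁ n₂ a b c → LX5 G n₁ n₂ → Nat.card G = n₁ * n₂

def JSplit5 : Prop := ∀ (G : Type u) [Group G] [Finite G] (n₁ n₂ a b c : ℕ), H2P G n₁ n₂ →
  Five G n₁ n₂ a b c → Nat.card G = n₁ * n₂ → 2 ∣ n₂ → (∃ d, CH G d) ∨ ∃ d, AL G n₁ n₂ d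

def JDi : Prop := ∀ (G : Type u) [Group G] [Finite G] (n₁ n₂ c : ℕ), AL G n₁ n₂ c →
  (∃ y z : G, (orderOf y).Prime ∧ (orderOf z).Prime ∧ orderOf y ≠ orderOf z ∧ cs(y) = n₂ ∧
    cent(y) ≤ cent(z)) ∨ ∃ s, BB G n₁ n₂ c s

def JNB : Prop := ∀ (G : Type u) [Group G] [Finite G] (n₁ n₂ c : ℕ), AL G n₁ n₂ c →
  ∀ y z : G, (orderOf y).Prime → (orderOf z).Prime → orderOf y ≠ orderOf z → cs(y) = n₂ →
    cent(y) ≤ cent(z) → ∃ K : Subgroup G, NB n₁ n₂ cent(y) K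

/-- characters of a Frobenius group -/
def JChA : Prop := ∀ (L : Type u) [Group L] [Fintype L] (K : Subgroup L) [K.Normal], K ≠ ⊥ →
  Group.IsSolvable K → (∀ h ∈ K, h ≠ 1 → cent(h) ≤ K) →
  (∀ χ : L → ℂ, IsIrrCharacter L χ → (∃ k ∈ K, χ k ≠ χ 1) → ∀ g, g ∉ K → χ g = 0) ∧
  (∀ g ∈ K, ∑ χ ∈ Finset.univ.filter (fun χ : IrrCharacter L =>
      ∃ k ∈ K, (χ : L → ℂ) k ≠ (χ : L → ℂ) 1), (χ : L → ℂ) 1 * (χ : L → ℂ) g =
    (if g = 1 then (Nat.card L : ℂ) else 0) - K.index) ∧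
  ∃ χ : L → ℂ, IsIrrCharacter L χ ∧ (∃ k ∈ K, χ k ≠ χ 1) ∧ ∃ d : ℕ, χ 1 = d ∧ d ≤ K.index

def JChB : Prop := JChA.{u} → ∀ (G : Type u) [Group G] [Finite G] (n₁ n₂ : ℕ) (B K A : Subgroup G),
  NB n₁ n₂ B K → A.index = n₁ → rank A = 2 ∨
    B.relIndex (normalizer (B : Set G)) + (n₁ - 1) ≤ B.relIndex (normalizer (B : Set G)) * rank A

def JOrb1 : Prop := ∀ (G : Type u) [Group G] [Finite G] (x : G), rank cent(x) = 2 → Tr x

def JOrb2 : Prop := ∀ (G : Type u) [Group G] [Finite G] (n₁ n₂ : ℕ) (B K A : Subgroup G),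
  NB n₁ n₂ B K → A.index = n₁ →
  ¬ B.relIndex (normalizer (B : Set G)) + (n₁ - 1) ≤ B.relIndex (normalizer (B : Set G)) * rank A

def JT12 : Prop := ∀ (G : Type u) [Group G] [Finite G] (x : G), NAS G → x ≠ 1 → Tr x →
  Iso x ∧ ∀ h k : G, h ∉ cent(x) → ¬ Commute ((h * x * h⁻¹)⁻¹ * x) (k * x * k⁻¹)

/-- sharply doubly transitive modulo the kernel -/
def JSharp : Prop := ∀ (M F : Type u) [Group M] [Finite M] [Finite F] [Nontrivial F] [MulAction M F],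
  (∀ a b c d : F, a ≠ b → c ≠ d → ∃ g : M, g • a = c ∧ g • b = d) →
  (∀ (g : M) (a b : F), a ≠ b → g • a = a → g • b = b → ∀ c : F, g • c = c) →
  ∃ l : ℕ, l.Prime ∧ (∃ j, Nat.card F = l ^ j) ∧ ∃ U : Subgroup M, U.Normal ∧
    (∀ w ∈ U, ∀ c : F, w ^ l • c = c) ∧ ∀ g : M, (∀ c : F, g • c ≠ c) → g ∈ U

def JT3a : Prop := JSharp.{u} → ∀ (G : Type u) [Group G] [Finite G] (x h : G), Tr x → h ∉ cent(x) →
  (∀ k : G, ¬ Commute ((h * x * h⁻¹)⁻¹ * x) (k * x * k⁻¹)) →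
  ∃ l : ℕ, l.Prime ∧ (cent(x) ⊓ cent(h * x * h⁻¹) = ⊥ → ∃ j, cs(x) = l ^ j) ∧
    ∃ U : Subgroup G, x ∈ normalizer (U : Set G) ∧ h * x * h⁻¹ ∈ normalizer (U : Set G) ∧
      (h * x * h⁻¹)⁻¹ * x ∈ U ∧ ∀ w ∈ U, w ^ l ∈ cent(x) ⊓ cent(h * x * h⁻¹)

def JT3b : Prop := ∀ (G : Type u) [Group G] [Finite G] (x h : G) (l : ℕ) (U : Subgroup G),
  (orderOf x).Prime → Iso x → l.Prime → x ∈ normalizer (U : Set G) →
  h * x * h⁻¹ ∈ normalizer (U : Set G) → (h * x * h⁻¹)⁻¹ * x ∈ U →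
  (∀ w ∈ U, w ^ l ∈ cent(x) ⊓ cent(h * x * h⁻¹)) → IsPiElt {l} ((h * x * h⁻¹)⁻¹ * x)

def JB0 : Prop := ∀ (G : Type u) [Group G] [Finite G] (n₁ n₂ c s : ℕ), BB G n₁ n₂ c s →
  BP G n₁ n₂ c s

def JB1 : Prop := ∀ (G : Type u) [Group G] [Finite G] (n₁ n₂ c s : ℕ), BB G n₁ n₂ c s → SelfN G n₂

def JB2 : Prop := ∀ (G : Type u) [Group G] [Finite G] (n₁ n₂ c s : ℕ), BP G n₁ n₂ c s →
  SelfN G n₂ → OddLoc G s

def JB3 : Prop := ∀ (G : Type u) [Group G] [Finite G] (n₁ n₂ c s : ℕ), BP G n₁ n₂ c s →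
  OddLoc G s → AbP G s

def JB4n : Prop := ∀ (G : Type u) [Group G] [Finite G] (n₁ n₂ c s : ℕ), BP G n₁ n₂ c s →
  SelfN G n₂ → AbP G s → ∀ w y : G, (orderOf w).Prime → orderOf w ≠ s → orderOf w ∣ n₁ →
    cs(y) = n₂ → Commute y w → cent(y) ≤ normalizer (cent(w) : Set G)

def JB4 : Prop := JB4n.{u} → ∀ (G : Type u) [Group G] [Finite G] (n₁ n₂ c s : ℕ), BP G n₁ n₂ c s →
  SelfN G n₂ → OddLoc G s → AbP G s → ∃ S S₀ H B : Subgroup G, AbS s S S₀ H B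

def JB5 : Prop := ∀ (G : Type u) [Group G] [Finite G] (s : ℕ) (S S₀ H B : Subgroup G),
  ¬ AbS s S S₀ H B

def JEv : Prop := ∀ (G : Type u) [Group G] [Finite G], Odd3 G → Ev G → Rank6 G

def JL6 : Prop := ∀ (F : Type) [Field F] [Fintype F] (n : ℕ), 3 ≤ n → Fintype.card F = 2 ^ n →
  Ev PSL(3, F)

def JU6 : Prop := ∀ (F : Type) [Field F] [Fintype F] (n : ℕ), 2 ≤ n →
  Fintype.card F = (2 ^ n) ^ 2 → Ev (PSU 3 F (2 ^ n))

def JS6a : Prop := ∀ (F : Type) [Field F] [Fintype F] (n : ℕ), 2 ≤ n → Fintype.card F = 2 ^ n →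
  ∃ (t : PSp 2 F) (s : ℕ), orderOf t = 2 ∧ ¬ 2 ∣ cs(t) ∧ s.Prime ∧ s ≠ 2 ∧ s ∣ Nat.card cent(t)

def JS6 : Prop := JS6a → ∀ (F : Type) [Field F] [Fintype F] (n : ℕ), 2 ≤ n →
  Fintype.card F = 2 ^ n → Rank6 (PSp 2 F)

def JA6 : Prop := Ev (alternatingGroup (Fin 7))

/-! ### tools -/

section
variable {G : Type u} [Group G] {n₁ n₂ a b c s : ℕ}

theorem H2.symm (h : H2 G n₁ n₂) : H2 G n₂ n₁ :=
  ⟨h.nas, h.ex₂, h.ex₁, h.head₂, h.head₁, fun x hx => (h.below x hx).symm⟩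

theorem H2P.symm (h : H2P G n₁ n₂) : H2P G n₂ n₁ :=
  ⟨h.toH2.symm, h.lt₂, h.lt₁, h.cop.symm, h.two₂, h.two₁,
    fun x y hx hy hc => h.ncomm y x hy hx hc.symm, h.ord₂, h.ord₁, h.exp₂, h.exp₁⟩

theorem Five.symm (h : Five G n₁ n₂ a b c) : Five G n₂ n₁ a b c :=
  fun x hx => by have := h x hx; tauto

theorem Five.swap (h : Five G n₁ n₂ a b c) : Five G n₁ n₂ b a c :=
  fun x hx => by have := h x hx; tauto

theorem Five.swap' (h : Five G n₁ n₂ a b c) : Five G n₁ n₂ a c b :=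
  fun x hx => by have := h x hx; tauto

theorem LX5.symm (h : LX5 G n₁ n₂) : LX5 G n₂ n₁ :=
  h.elim (fun h => Or.inl h.symm) fun h => Or.inr h.symm

theorem H2P.ne_one₁ (h : H2P G n₁ n₂) {x : G} (hx : cs(x) = n₁) : x ≠ 1 := by
  rintro rfl
  have := h.lt₁
  rw [cs_one] at hx
  omega

theorem H2P.ne_one₂ (h : H2P G n₁ n₂) {x : G} (hx : cs(x) = n₂) : x ≠ 1 := h.symm.ne_one₁ hx

variable [Finite G]

namespace H2x
variable (h : H2 G n₁ n₂)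
include h

theorem one_lt : 1 < n₁ := by
  obtain ⟨x, hx, rfl⟩ := h.ex₁
  exact h.nas.one_lt_cs hx

theorem ne_one {x : G} (hx : cs(x) = n₁) : x ≠ 1 := by
  rintro rfl
  have := one_lt h
  rw [cs_one] at hx
  omega

theorem cop : n₁.Coprime n₂ := by
  refine Nat.coprime_of_dvd fun p hp h1 h2 => ?_
  have := Fact.mk hp
  obtain ⟨x, -, hx⟩ := h.ex₁
  obtain ⟨P⟩ : Nonempty (Sylow p G) := inferInstance
  obtain ⟨z, -, hz, hP⟩ := ito_exists_central P.isPGroup'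
    (ito_sylow_ne_bot (h1.trans (hx ▸ cs_dvd_card x)) P)
  have hz1 : z ≠ 1 := fun e => hp.one_lt.ne' (by rw [← hz, e, orderOf_one])
  exact not_dvd_cs_iff.2 ⟨P, hP⟩ ((h.below z hz1).elim h1.trans h2.trans)

theorem two (l : ℕ) : ∃ p : ℕ, p.Prime ∧ p ≠ l ∧ p ∣ n₁ := by
  by_contra hc
  have hc' : ∀ p : ℕ, p.Prime → p ∣ n₁ → p = l := fun p hp hd => by_contra fun e => hc ⟨p, hp, e, hd⟩
  have h1 := one_lt h
  have hm := Nat.minFac_prime h1.ne'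
  have hl : l.Prime := hc' _ hm (Nat.minFac_dvd _) ▸ hm
  have e := Nat.eq_prime_pow_of_unique_prime_dvd (n := n₁) (p := l) (by omega) fun {d} hd hd' => hc' d hd hd'
  obtain ⟨x, hx, hx'⟩ := h.ex₁
  have := h.nas.1
  have := Fact.mk (CL.Char.prime_card_of_index_eq_prime_pow hl hx (hx'.trans e))
  have : IsCyclic G := isCyclic_of_prime_card (p := Nat.card G) rfl
  exact h.nas.2 inferInstance

theorem ncomm (x y : G) (hx : cs(x) = n₁) (hy : cs(y) = n₂) : ¬ Commute x y := fun hc => by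
  have h1 := normalClosure_le_of_coprime (H := cent(y)) (mem_cent.2 hc) (by rw [hx, hy]; exact (cop h).symm)
  rcases h.nas.1.eq_bot_or_eq_top_of_normal (normalClosure ({x} : Set G)) inferInstance with e | e
  · have : x ∈ normalClosure ({x} : Set G) := subset_normalClosure rfl
    rw [e] at this
    exact ne_one h hx this
  · rw [e, top_le_iff, cent_eq_top_iff] at h1
    exact h.nas.not_mem_center (ne_one h.symm hy) h1

theorem pw {x : G} {r : ℕ} (hx : cs(x) = n₁) (hr : r.Prime) (hd : r ∣ orderOf x) :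
    ∃ y : G, orderOf y = r ∧ cs(y) = n₁ ∧ cent(x) = cent(y) := by
  have ho := orderOf_pow_orderOf_div (orderOf_pos x).ne' hd
  have e : cs(x ^ (orderOf x / r)) = n₁ :=
    h.head₁ _ (fun e => hr.one_lt.ne' (by rw [← ho, e, orderOf_one]))
      (by rw [← hx]; exact cs_dvd_of_le (cent_le_pow x _))
  exact ⟨_, ho, e, cent_eq_of_le_of_cs_le (cent_le_pow x _) (hx.trans e.symm).le⟩

theorem ord (x : G) (r : ℕ) (hx : cs(x) = n₁) (hr : r.Prime) (hd : r ∣ orderOf x) : r ∣ n₂ := by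
  obtain ⟨x', ho, hx', -⟩ := pw h hx hr hd
  obtain ⟨y, -, hy⟩ := h.ex₂
  by_contra hn
  exact ncomm h x' y hx' hy (commute_of_coprime_cs (by rw [hx', hy]; exact cop h)
    (by rw [ho, hy]; exact (Nat.Prime.coprime_iff_not_dvd hr).2 hn))

theorem exp : ∃ x : G, (orderOf x).Prime ∧ cs(x) = n₁ := by
  obtain ⟨x, hx, hx'⟩ := h.ex₁
  have hm := Nat.minFac_prime (mt orderOf_eq_one_iff.1 hx)
  obtain ⟨y, ho, hy, -⟩ := pw h hx' hm (Nat.minFac_dvd _)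
  exact ⟨y, ho ▸ hm, hy⟩

end H2x

theorem H2.toP (h : H2 G n₁ n₂) : H2P G n₁ n₂ :=
  ⟨h, H2x.one_lt h, H2x.one_lt h.symm, H2x.cop h, H2x.two h, H2x.two h.symm, H2x.ncomm h, H2x.ord h,
    H2x.ord h.symm, H2x.exp h, H2x.exp h.symm⟩

/-- if `|G| = m n` and `n` divides the class size then the centralizer order divides `m` -/
theorem card_cent_dvd {m n : ℕ} (hG : Nat.card G = m * n) {g : G} (h : n ∣ cs(g)) :
    Nat.card cent(g) ∣ m := by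
  obtain ⟨k, hk⟩ := h
  have e := card_cent_mul_cs g
  have hn : 0 < n := Nat.pos_of_ne_zero fun e => cs_ne_zero g (by rw [hk, e, zero_mul])
  rw [hG, hk, mul_comm n k, ← mul_assoc] at e
  exact ⟨k, (Nat.eq_of_mul_eq_mul_right hn e).symm⟩

theorem AL.odd (h : AL G n₁ n₂ c) : ¬ 2 ∣ n₁ := fun h2 =>
  absurd (Nat.eq_one_of_dvd_coprimes h.cop h2 h.even) (by norm_num)

theorem AL.card₂ (h : AL G n₁ n₂ c) {y : G} (hy : cs(y) = n₂) : Nat.card cent(y) = n₁ := by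
  have e := card_cent_mul_cs y
  rw [h.card, hy] at e
  exact Nat.eq_of_mul_eq_mul_right (by have := h.lt₂; omega) e

theorem AL.card₁ (h : AL G n₁ n₂ c) {x : G} (hx : cs(x) = n₁) : Nat.card cent(x) = n₂ := by
  have e := card_cent_mul_cs x
  rw [h.card, hx, mul_comm n₁] at e
  exact Nat.eq_of_mul_eq_mul_right (by have := h.lt₁; omega) e

/-- no mixed centralizers -/
theorem AL.mix (h : AL G n₁ n₂ c) {g : G} (hg : g ≠ 1) :
    Nat.card cent(g) ∣ n₁ ∨ Nat.card cent(g) ∣ n₂ :=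
  ((h.below g hg).imp (card_cent_dvd (h.card.trans (mul_comm _ _))) (card_cent_dvd h.card)).symm

/-- an element whose centralizer order is divisible by a prime divisor of `n₁` -/
theorem AL.alpha (h : AL G n₁ n₂ c) {g : G} (hg : g ≠ 1) {p : ℕ} (hp : p.Prime) (h1 : p ∣ n₁)
    (h2 : p ∣ Nat.card cent(g)) : Nat.card cent(g) ∣ n₁ ∧ (cs(g) = n₂ ∨ cs(g) = c) := by
  have : n₂ ∣ cs(g) := (h.below g hg).resolve_left fun hd => hp.one_lt.ne'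
    (Nat.eq_one_of_dvd_coprimes h.cop h1 (h2.trans (card_cent_dvd (h.card.trans (mul_comm _ _)) hd)))
  exact ⟨card_cent_dvd h.card this, h.one g hg this⟩

theorem pq_top {X : Type u} [Group X] [Finite X] {p : ℕ} [hp : Fact p.Prime] (hX : Group.IsSolvable X)
    (A : Subgroup X) (w : X) (hs : IsPiElt {p} w) (hcop : (Nat.card A).Coprime p) {k : ℕ}
    (hk : A.index = p ^ k) (hc : cent(w) ≤ centralizer (A : Set X)) : A.Normal := by
  have hsA : w ∈ centralizer (A : Set X) := hc (self_mem_cent w)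
  have hab : A ≤ centralizer (A : Set X) := fun a ha => hc (mem_cent.2 (hsA a ha))
  have hV : A ≤ centralizer (pCore p X : Set X) :=
    Cfsg.Agent.S0028.result p (zpowers w) A (pCore p X) hs.isPGroup_zpowers hcop (pCore_isPGroup p X)
      (zpowers_le.2 hsA) le_normalizer_of_normal le_normalizer_of_normal
      fun v hv => hc (mem_cent'.2 (hv.2 w (mem_zpowers w)))
  have hW : ∀ (q : ℕ) [Fact q.Prime], q ≠ p → pCore q X ≤ A := fun q hq h2 => by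
    apply le_of_normal_of_coprime_index
    obtain ⟨j, hj⟩ := (pCore_isPGroup q X).exists_card_eq
    rw [hj, hk]
    exact Nat.Coprime.pow _ _ ((Nat.coprime_primes hq.out hp.out).2 h2)
  have hF : A ≤ fittingSubgroup X := by
    refine le_trans ?_ (centralizer_fittingSubgroup_le X)
    rw [le_centralizer_iff]
    refine fittingSubgroup_le_of_forall_pCore_le fun q _ => ?_
    by_cases h2 : q = p
    · subst h2; exact le_centralizer_iff.1 hV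
    · exact (hW q h2).trans hab
  refine ⟨fun a ha g => ?_⟩
  have h1 : g * a * g⁻¹ ∈ fittingSubgroup X := (fittingSubgroup_normal X).conj_mem a (hF ha) g
  refine mem_of_forall_piPart_mem fun q hq hd => ?_
  have := Fact.mk hq
  have h2 : q ≠ p := by
    rintro rfl
    rw [orderOf_conj'] at hd
    exact (hq.coprime_iff_not_dvd.1 hcop.symm) (hd.trans (orderOf_dvd_natCard A ha))
  exact hW q h2 (le_pCore_of_le_fittingSubgroup (isPiElt_piPart {q} _).isPGroup_zpowers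
    (zpowers_le.2 (piPart_mem h1)) (mem_zpowers _))

/-- the `P × Q` lemma with the Fitting subgroup, any prime -/
theorem pq {p : ℕ} [Fact p.Prime] {D A : Subgroup G} {w : G} (hD : Group.IsSolvable D) (hw : w ∈ D)
    (hw' : IsPiElt {p} w) (hAD : A ≤ D) (hA : (Nat.card A).Coprime p) {k : ℕ}
    (hk : A.relIndex D = p ^ k) (hc : cent(w) ⊓ D ≤ centralizer (A : Set G)) :
    D ≤ normalizer (A : Set G) := by
  refine (normal_subgroupOf_iff_le_normalizer hAD).1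
    (pq_top hD (A.subgroupOf D) ⟨w, hw⟩ (isPiElt_coe_iff.1 hw') ?_ hk ?_)
  · rwa [Nat.card_congr (subgroupOfEquivOfLe hAD).toEquiv]
  · intro y hy a ha
    rw [cent_coe] at hy
    exact Subtype.ext (hc ⟨hy, y.2⟩ a ha)

theorem rank6_of {x₁ x₂ x₃ x₄ x₅ x₆ : G} (h₁ : x₁ ≠ 1) (h₂ : x₂ ≠ 1) (h₃ : x₃ ≠ 1)
    (h₄ : x₄ ≠ 1) (h₅ : x₅ ≠ 1) (h₆ : x₆ ≠ 1)
    (h : [Nat.card cent(x₁), Nat.card cent(x₂), Nat.card cent(x₃), Nat.card cent(x₄),
      Nat.card cent(x₅), Nat.card cent(x₆)].Nodup) : Rank6 G := by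
  have hf : {n : ℕ | ∃ x : G, x ≠ 1 ∧ Nat.card cent(x) = n}.Finite :=
    (Set.finite_range fun x : G => Nat.card cent(x)).subset fun _ ⟨x, _, e⟩ => ⟨x, e⟩
  have := Set.ncard_le_ncard (s := ↑([Nat.card cent(x₁), Nat.card cent(x₂), Nat.card cent(x₃),
    Nat.card cent(x₄), Nat.card cent(x₅), Nat.card cent(x₆)].toFinset)) (fun n hn => ?_) hf
  · rwa [Set.ncard_coe_finset, List.toFinset_card_of_nodup h] at this
  · simp only [List.coe_toFinset, List.mem_cons, List.not_mem_nil, or_false, Set.mem_ofPred_eq] at hn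
    rcases hn with rfl | rfl | rfl | rfl | rfl | rfl
    exacts [⟨_, h₁, rfl⟩, ⟨_, h₂, rfl⟩, ⟨_, h₃, rfl⟩, ⟨_, h₄, rfl⟩, ⟨_, h₅, rfl⟩, ⟨_, h₆, rfl⟩]

end

end CL.Rk5
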