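/-
Simple groups of conjugate type rank five (S3194): first consequences of the case `BB`.
-/
import Cfsg.Agent.Rk5.Defs
import Cfsg.Agent.S4034

set_option autoImplicit false

universe u

namespace CL.Rk5

open Subgroup Cfsg CL.Grp CL.Fgs CL.Cit CL.Rk4
open scoped MatrixGroups Classical

namespace B0x

variable {G : Type u} [Group G] [Finite G] {n₁ n₂ c s p : ℕ} {y w : G} (h : BB G n₁ n₂ c s)
include h

omit [Finite G] in
theorem ka (hy : cs(y) = n₂) (hw : w ∈ cent(y)) (hs : IsPiElt {s}ᶜ w) (h1 : w ≠ 1) :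
    (cent(w)).relIndex cent(y) ≠ 1 ∧ (cent(w)).relIndex cent(y) * n₂ = c := by
  have hc := mem_cent'.1 hw
  have ho := (h.sel y hy).coprime hs
  have e := cs_mul_of_coprime' hc ho
  have n : cs(y * w) ≠ n₂ := fun k => h1 (((h.sel _ k).of_mem_zpowers (mem_zpowers_mul_of_coprime' hc ho)).eq_one hs)
  rw [hy] at e
  exact ⟨fun k => n (by rw [e, k, one_mul]), e ▸ (h.one _ (mul_ne_one_of_coprime (h.toH2P.ne_one₂ hy) hc ho)
    (e ▸ Dvd.intro_left _ rfl)).resolve_left n⟩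

theorem solv (hy : cs(y) = n₂) : Group.IsSolvable cent(y) := by
  have := Fact.mk h.prime
  refine (abf_in (p := s) (k := c / n₂) fun w hw hs => ?_).1
  by_cases e : w = 1
  · exact Or.inl (by rw [e, cent_one]; exact le_top)
  · exact Or.inr (by rw [← (ka h hy hw hs e).2, Nat.mul_div_cancel _ (by have := h.lt₂; omega)])

theorem pow : ∃ k : ℕ, 1 ≤ k ∧ c = s ^ k * n₂ := by
  obtain ⟨y, -, hy⟩ := h.ex₂
  obtain ⟨p, hp, ps, pn⟩ := h.two₁ s
  obtain ⟨w, hw, wp, w1⟩ := ito_exists_elt hp (h.toAL.card₂ hy ▸ pn : p ∣ Nat.card cent(y))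
  obtain ⟨k1, k2⟩ := ka h hy hw (ito_ne ps wp) w1
  have hq : ∀ {q : ℕ}, q.Prime → q ∣ (cent(w)).relIndex cent(y) → q = s := fun {q} hq hd => by
    by_contra qs
    have := Fact.mk hq
    obtain ⟨Q, hQ⟩ := exists_isSylowIn q cent(y)
    obtain ⟨z, hz, z1, z2⟩ := ito_exists_central hQ.isPGroup fun e => hQ.2.2 (by
      rw [e, relIndex_bot_left]; exact hd.trans (relIndex_dvd_card _ _))
    obtain ⟨z3, z4⟩ := ito_piElt_of_orderOf hq z1
    have e := Nat.eq_of_mul_eq_mul_right (by have := h.lt₂; omega) (k2.trans (ka h hy (hQ.1 hz) (ito_ne qs z3) z4).2.symm)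
    exact hQ.2.2 ((e ▸ hd).trans (relIndex_dvd_of_le_left _ z2))
  have h0 : (cent(w)).relIndex cent(y) ≠ 0 := index_ne_zero_of_finite
  have h5 := Nat.eq_prime_pow_of_unique_prime_dvd h0 hq
  generalize (Nat.primeFactorsList ((cent(w)).relIndex cent(y))).length = k at h5
  exact ⟨k, Nat.one_le_iff_ne_zero.2 fun e => k1 (by rw [h5, e, pow_zero]), by rw [← h5, k2]⟩

theorem abp (hp : p.Prime) (ps : p ≠ s) (pn : p ∣ n₁) : AbP G p := by
  have := Fact.mk hp
  obtain ⟨y, -, hy⟩ := h.ex₂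
  obtain ⟨k, -, hk⟩ := pow h
  obtain ⟨H, hH, -, j, hj⟩ := (Cfsg.Agent.S4034.result (G := cent(y)) h.prime).1 fun x hx => by
    rw [ncard_carrier_mk]
    by_cases e : x = 1
    · exact ⟨0, by rw [e, cs_one, pow_zero]⟩
    · refine ⟨k, Nat.eq_of_mul_eq_mul_right (by have := h.lt₂; omega : 0 < n₂) ?_⟩
      rw [cs_coe, ← hk]
      exact (ka h hy x.2 (isPiElt_coe_iff.2 ((isPiElt_compl_singleton_iff_coprime h.prime).2 hx))
        (mt OneMemClass.coe_eq_one.1 e)).2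
  obtain ⟨P, hP⟩ := exists_sylow_le_of_not_dvd_index (p := p) (H := H.map (cent(y)).subtype) fun d => by
    rw [index_map_subtype, hj, hy] at d
    exact (hp.dvd_mul.1 d).elim (fun d => ps ((Nat.prime_dvd_prime_iff_eq hp h.prime).1 (hp.dvd_of_dvd_pow d)))
      fun d => hp.ne_one (Nat.eq_one_of_dvd_coprimes h.cop pn d)
  intro X hX a ha b hb
  obtain ⟨g, hg⟩ := exists_conj_le_sylow P hX
  obtain ⟨a', ha', ea⟩ := hP (hg (conj_mem_conj_smul g ha))
  obtain ⟨b', hb', eb⟩ := hP (hg (conj_mem_conj_smul g hb))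
  refine (MulAut.conj g).injective ?_
  rw [map_mul, map_mul, MulAut.conj_apply, MulAut.conj_apply, ← ea, ← eb, ← map_mul, ← map_mul]
  exact congrArg _ (congrArg Subtype.val (hH.is_comm.comm (⟨b', hb'⟩ : H) ⟨a', ha'⟩))

theorem kc (hp : p.Prime) (ps : p ≠ s) (pn : p ∣ n₁) (hw : p ∣ orderOf w) : cs(w) = c :=
  (h.toAL.alpha (fun e => hp.ne_one (by rwa [e, orderOf_one, Nat.dvd_one] at hw)) hp pn
    (hw.trans (orderOf_dvd_card_cent w))).2.resolve_left fun k => ps (h.sel w k p hp hw)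

theorem abc (hp : p.Prime) (ps : p ≠ s) (pn : p ∣ n₁) (hw : orderOf w = p) : ∀ v ∈ cent(w), cent(w) ≤ cent(v) := by
  have := Fact.mk hp
  have k1 : ∀ v ∈ cent(w), IsPiElt {p}ᶜ v → cent(w) ≤ cent(v) := fun v hv hv' => by
    have hc := mem_cent'.1 hv
    have ho := (ito_piElt_of_orderOf hp hw).1.coprime hv'
    have e := cent_mul_of_coprime hc ho
    rw [← cent_eq_of_le_of_cs_le (e.trans_le inf_le_left) ((kc h hp ps pn
      (hc.orderOf_mul_eq_mul_orderOf_of_coprime ho ▸ hw ▸ Nat.dvd_mul_right _ _)).trans (kc h hp ps pn (hw ▸ dvd_rfl)).symm).le]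
    exact e.trans_le inf_le_right
  obtain ⟨P, -, hP, -⟩ := exists_direct_in (p := p) (C := cent(w)) fun v hv hv' => by
    rw [relIndex_eq_one.2 (k1 v hv hv')]; exact hp.not_dvd_one
  have a := abp h hp ps pn P (isPGroup_of_forall_isPiElt fun x hx => ((hP x).1 hx).2)
  intro v hv g hg
  rw [cent_eq_inf_piPart {p} v]
  refine ⟨mem_cent_comm.1 ?_, k1 _ (piPart_mem hv) (isPiElt_piPart _ v) hg⟩
  rw [cent_eq_inf_piPart {p} g]
  exact ⟨mem_cent'.2 (a ((hP _).2 ⟨piPart_mem hv, isPiElt_piPart _ v⟩) _ ((hP _).2 ⟨piPart_mem hg, isPiElt_piPart _ g⟩)),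
    k1 _ (piPart_mem hg) (isPiElt_piPart _ g) (piPart_mem hv)⟩

end B0x

open B0x

theorem jB0 : JB0.{u} := by
  intro G _ _ n₁ n₂ c s h
  refine ⟨h, pow h, fun g hg => ?_, fun y => solv h⟩
  obtain ⟨k, -, hk⟩ := pow h
  obtain ⟨p, hp, ps, pn⟩ := h.two₁ s
  have := Fact.mk hp
  have e := card_cent_mul_cs g
  rw [hg, hk, h.card, ← mul_assoc] at e
  have d := (hp.dvd_mul.1 (Nat.eq_of_mul_eq_mul_right (by have := h.lt₂; omega) e ▸ pn)).resolve_right fun d =>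
    ps ((Nat.prime_dvd_prime_iff_eq hp h.prime).1 (hp.dvd_of_dvd_pow d))
  obtain ⟨w, hw⟩ := exists_prime_orderOf_dvd_card' p d
  rw [← orderOf_coe] at hw
  rw [← cent_eq_of_le_of_cs_le (abc h hp ps pn hw g (mem_cent_comm.1 w.2)) ((kc h hp ps pn (hw ▸ dvd_rfl)).trans hg.symm).le]
  exact abc h hp ps pn hw

end CL.Rk5
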