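/-
Rank five: the centralizers of class size `n₂` are self-normalizing and the `s`-locals have odd order.
-/
import Cfsg.Agent.Rk5.Defs
import Cfsg.Agent.S0033

set_option autoImplicit false

universe u

namespace CL.Rk5

open Subgroup Cfsg CL.Grp CL.Fgs CL.Cit CL.Rk4
open scoped MatrixGroups Classical

namespace B12

variable {G : Type u} [Group G] [Finite G] {n₁ n₂ c s : ℕ}

theorem central {B : Type u} [Group B] [Finite B] [Group.IsNilpotent B] {p : ℕ} (hp : p.Prime)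
    (h : p ∣ Nat.card B) : ∃ w : B, w ≠ 1 ∧ IsPiElt {p} w ∧ w ∈ center B := by
  have := Fact.mk hp
  obtain ⟨P⟩ : Nonempty (Sylow p B) := inferInstance
  have : (P : Subgroup B).Normal := Sylow.normal_of_normalizerCondition Group.normalizerCondition_of_isNilpotent P
  obtain ⟨⟨w, hw⟩, h1⟩ := ne_bot_iff_exists_ne_one.1 (inf_center_ne_bot (ito_sylow_ne_bot h P))
  exact ⟨w, fun e => h1 (Subtype.ext e), isPiElt_singleton_of_mem P.isPGroup' hw.1, hw.2⟩

/-- an element commuting with a non-trivial element whose centralizer order is divisible by a prime divisor of `n₁` -/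
theorem ord_dvd (h : AL G n₁ n₂ c) {g f : G} (hg : g ≠ 1) {p : ℕ} (hp : p.Prime) (h1 : p ∣ n₁)
    (h2 : p ∣ Nat.card cent(g)) (hc : f ∈ cent(g)) : orderOf f ∣ n₁ :=
  (orderOf_dvd_natCard _ hc).trans (h.alpha hg hp h1 h2).1

omit [Finite G] in
theorem norm_of_inv {i y : G} (h : i * y * i⁻¹ = y⁻¹) : i ∈ normalizer (cent(y) : Set G) := by
  rw [mem_normalizer_iff]
  intro g
  rw [← conj_mem_cent_conj (g := i), h, cent_inv]

end B12

open B12

theorem jB1 : JB1.{u} := by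
  intro G _ _ n₁ n₂ c s h y hy
  by_contra hn
  have hq := Nat.minFac_prime (n := (cent(y)).relIndex (normalizer (cent(y) : Set G))) (fun e => hn (relIndex_eq_one.1 e))
  have := Fact.mk hq
  obtain ⟨f, hf⟩ := exists_prime_orderOf_dvd_card' (G := normalizer (cent(y) : Set G)) _
    ((Nat.minFac_dvd _).trans (relIndex_dvd_card cent(y) _))
  have hq2 : orderOf f ∣ n₂ := hf ▸ (Nat.minFac_dvd _).trans (hy ▸ relIndex_dvd_index_of_le le_normalizer)
  rw [← hf] at hq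
  have hB := h.toAL.card₂ hy
  have fp : MonoidHom.FixedPointFree ((cent(y)).normalizerMonoidHom f : cent(y) →* cent(y)) := by
    intro b hb
    by_contra hb1
    have hb1' : (b : G) ≠ 1 := fun e => hb1 (Subtype.ext e)
    have hp := Nat.minFac_prime (mt orderOf_eq_one_iff.1 hb1')
    have h1 := ord_dvd h.toAL hb1' hp ((Nat.minFac_dvd _).trans (hB ▸ orderOf_dvd_natCard _ b.2))
      ((Nat.minFac_dvd _).trans (orderOf_dvd_card_cent _)) (f := f) (mem_cent_iff_conj.2 (congrArg Subtype.val hb))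
    rw [Subgroup.orderOf_coe] at h1
    exact hq.one_lt.ne' (Nat.eq_one_of_dvd_coprimes h.cop h1 hq2)
  have := Fact.mk hq
  have ho : orderOf ((cent(y)).normalizerMonoidHom f) = orderOf f :=
    orderOf_eq_prime (by rw [← map_pow, pow_orderOf_eq_one, map_one]) fun e =>
      h.toH2P.ne_one₂ hy (congrArg Subtype.val (fp ⟨y, self_mem_cent y⟩ (by rw [e]; rfl)))
  have := Cfsg.Agent.S0033.result _ fp _ hq ho
  obtain ⟨p, hp, hps, hp1⟩ := h.two₁ s
  obtain ⟨w, hw1, hw, hz⟩ := central (B := cent(y)) hp (hB ▸ hp1)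
  have hw1' : (w : G) ≠ 1 := fun e => hw1 (Subtype.ext e)
  have hle : cent(y) ≤ cent((w : G)) := fun g hg =>
    mem_cent.2 (congrArg Subtype.val (mem_center_iff.1 hz ⟨g, hg⟩))
  have h2 := h.sel w (h.head₂ w hw1' (hy ▸ cs_dvd_of_le hle))
  have hr := Nat.minFac_prime (mt orderOf_eq_one_iff.1 hw1')
  exact hps ((isPiElt_coe_iff.2 hw _ hr (Nat.minFac_dvd _)).symm.trans (h2 _ hr (Nat.minFac_dvd _)))

theorem jB2 : JB2.{u} := by
  intro G _ _ n₁ n₂ c s h hS X hX hXs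
  have := Fact.mk h.prime
  by_contra hev
  obtain ⟨⟨i, hiN⟩, hi⟩ := exists_prime_orderOf_dvd_card' (G := normalizer (X : Set G)) 2
    (even_iff_two_dvd.1 (Nat.not_odd_iff_even.1 hev))
  rw [← Subgroup.orderOf_coe] at hi
  simp only at hi
  have ii : i * i = 1 := by rw [← pow_two, ← hi, pow_orderOf_eq_one]
  have i' : i⁻¹ = i := inv_eq_of_mul_eq_one_right ii
  have no : ∀ {g : G} {p : ℕ}, g ≠ 1 → p.Prime → p ∣ n₁ → p ∣ Nat.card cent(g) → i ∉ cent(g) :=
    fun hg hp h1 h2 hc => h.toAL.odd (hi ▸ ord_dvd h.toAL hg hp h1 h2 hc)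
  have sd : ∀ g ∈ X, g ≠ 1 → s ∣ Nat.card cent(g) := fun g hg h1 => by
    have hr := Nat.minFac_prime (mt orderOf_eq_one_iff.1 h1)
    have e : _ = s := isPiElt_singleton_of_mem hXs hg _ hr (Nat.minFac_dvd _)
    exact e ▸ (Nat.minFac_dvd _).trans (orderOf_dvd_card_cent g)
  have fact : ∀ y : G, cs(y) = n₂ → i * y * i⁻¹ ≠ y⁻¹ := fun y hy e =>
    h.toAL.odd (hi ▸ h.toAL.card₂ hy ▸ orderOf_dvd_natCard _ (hS y hy (norm_of_inv e)))
  obtain ⟨⟨v, hv⟩, hv1⟩ := ne_bot_iff_exists_ne_one.1 hX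
  have hv1' : v ≠ 1 := fun e => hv1 (Subtype.ext e)
  obtain ⟨u, hu⟩ : ∃ u, u = v⁻¹ * (i * v * i⁻¹) := ⟨_, rfl⟩
  have huX : u ∈ X := hu ▸ mul_mem (inv_mem hv) ((mem_normalizer_iff.1 hiN v).1 hv)
  have hu1 : u ≠ 1 := fun e => no hv1' h.prime h.dvd (sd v hv hv1')
    (mem_cent_iff_conj.2 (inv_mul_eq_one.1 (hu ▸ e)).symm)
  have hui : i * u * i⁻¹ = u⁻¹ := by
    rw [hu, i']
    calc i * (v⁻¹ * (i * v * i)) * i = i * v⁻¹ * i * v * (i * i) := by group
      _ = (v⁻¹ * (i * v * i))⁻¹ := by rw [ii]; simp [mul_assoc, i']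
  have hc : cs(u) = c := (h.toAL.alpha hu1 h.prime h.dvd (sd u huX hu1)).2.resolve_left fun e => fact u e hui
  obtain ⟨k, -, hk⟩ := h.pow
  obtain ⟨p, hp, hps, hp1⟩ := h.two₁ s
  have := Fact.mk hp
  have hM : Nat.card cent(u) * s ^ k = n₁ := by
    have e := card_cent_mul_cs u
    rw [hc, hk, h.card, ← mul_assoc] at e
    exact Nat.eq_of_mul_eq_mul_right (by have := h.lt₂; omega) e
  have hpM : p ∣ Nat.card cent(u) := (hp.dvd_mul.1 (hM ▸ hp1)).resolve_right fun d =>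
    hps ((Nat.prime_dvd_prime_iff_eq hp h.prime).1 (hp.dvd_of_dvd_pow d))
  obtain ⟨w, hwM, hw, hw1⟩ := ito_exists_elt hp hpM
  have hle := h.ab u hc w hwM
  have hcw : cs(w) = c := (h.toAL.alpha hw1 hp hp1 (hpM.trans (card_dvd_of_le hle))).2.resolve_left fun e => by
    have hr := Nat.minFac_prime (mt orderOf_eq_one_iff.1 hw1)
    exact hps ((hw _ hr (Nat.minFac_dvd _)).symm.trans (h.sel w e _ hr (Nat.minFac_dvd _)))
  have he : cent(u) = cent(w) := cent_eq_of_le_of_cs_le hle (hc.trans hcw.symm).le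
  obtain ⟨y, -, hy⟩ := h.ex₂
  obtain ⟨P, hP⟩ := hw.exists_mem_sylow
  obtain ⟨g, hg⟩ := exists_conj_mem_centralizer_of_not_dvd_cs (x := y)
    (fun d => hp.one_lt.ne' (Nat.eq_one_of_dvd_coprimes h.cop hp1 (hy ▸ d))) P
  obtain ⟨y', hy'⟩ : ∃ y', y' = g * y * g⁻¹ := ⟨_, rfl⟩
  have hc' : cs(y') = n₂ := by rw [hy', cs_conj, hy]
  have hyM : y' ∈ cent(u) := he ▸ mem_cent'.2 (hy' ▸ hg w hP)
  have hyM' : i * y' * i⁻¹ ∈ cent(u) := (mem_normalizer_iff.1 (norm_of_inv hui) y').1 hyM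
  have hcm : Commute (i * y' * i⁻¹) y' := mem_cent.1 (h.ab u hc y' hyM hyM')
  refine fact y' hc' (eq_inv_of_mul_eq_one_right ?_)
  by_contra hm
  refine no hm hp hp1 (hpM.trans (card_dvd_of_le (h.ab u hc _ (mul_mem hyM hyM')))) (mem_cent_iff_conj.2 ?_)
  calc i * (y' * (i * y' * i⁻¹)) * i⁻¹ = i * y' * i⁻¹ * ((i * i) * y' * (i * i)⁻¹) := by group
    _ = y' * (i * y' * i⁻¹) := by rw [ii, one_mul, inv_one, mul_one, hcm.eq]

end CL.Rk5
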