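/-
Project RK5 (S3194), job B3 (helper87): the Sylow `s`-subgroups are abelian.
-/
import Cfsg.Agent.Rk5.Defs
import Cfsg.Agent.S3071

set_option autoImplicit false

universe u

namespace CL.Rk5

open Subgroup Cfsg CL.Grp CL.Fgs CL.Cit CL.Rk4 CL.Loc
open scoped MatrixGroups Classical

namespace B3

theorem even_sl2 {s : ℕ} [hs : Fact s.Prime] (h2 : s ≠ 2) :
    2 ∣ Nat.card (Matrix.SpecialLinearGroup (Fin 2) (ZMod s)) := by
  have h : orderOf (-1 : Matrix.SpecialLinearGroup (Fin 2) (ZMod s)) = 2 := by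
    refine orderOf_eq_prime (by simp) fun e => ?_
    have h1 := congrArg (fun A : Matrix.SpecialLinearGroup (Fin 2) (ZMod s) => A.1 0 0) e
    have : Fact (2 < s) := ⟨lt_of_le_of_ne hs.out.two_le h2.symm⟩
    exact ZMod.neg_one_ne_one (n := s) (by simpa using h1)
  exact h.symm.dvd.trans (orderOf_dvd_natCard _)

variable {G : Type u} [Group G] [Finite G] {n₁ n₂ c s : ℕ}

theorem zle (S : Subgroup G) : S ⊓ centralizer (S : Set G) ≤ centerThompsonOf 0 S := fun _ hx =>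
  ⟨mem_thompsonSubgroupOf_of_centralizer hx.1 (pow_zero _) (centralizer_le (thompsonSubgroupOf_le S) hx.2),
    centralizer_le (thompsonSubgroupOf_le S) hx.2⟩

theorem nd (h : BP G n₁ n₂ c s) : ¬ s ∣ n₂ := fun hd =>
  h.prime.one_lt.ne' (Nat.eq_one_of_dvd_coprimes h.cop h.dvd hd)

theorem sc (h : BP G n₁ n₂ c s) : s ∣ c := by
  obtain ⟨k, hk, e⟩ := h.pow
  exact e ▸ (dvd_pow_self s (by omega)).mul_right _

theorem memZ [Fact s.Prime] (h : BP G n₁ n₂ c s) (hO : OddLoc G s) (S : Sylow s G) (h0 : (S : Subgroup G) ≠ ⊥)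
    {v : G} (hv : v ∈ (S : Subgroup G)) (hc : cs(v) = n₂) : v ∈ centerThompsonOf 0 (S : Subgroup G) := by
  have h2 : s ≠ 2 := fun e => h.odd (e ▸ h.dvd)
  obtain ⟨g, hg⟩ := exists_conj_mem_centralizer_of_not_dvd_cs (x := v) (by rw [hc]; exact nd h) S
  have hgS : g * v * g⁻¹ ∈ (S : Subgroup G) := by
    have h1 : IsPGroup s (zpowers (g * v * g⁻¹)) :=
      ((isPiElt_singleton_of_mem S.isPGroup' hv).conj g).isPGroup_zpowers
    have h3 := S.is_maximal' (h1.to_sup_of_normal_right' S.isPGroup'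
      (zpowers_le.2 (centralizer_le_normalizer _ hg))) le_sup_right
    exact h3 ▸ mem_sup_left (mem_zpowers _)
  obtain ⟨n, hn, e⟩ := (Cfsg.Agent.S3071.result h2 S (by
    rintro P h1 h3 ⟨H, K, hK, h4, ⟨e⟩⟩
    obtain ⟨z, hz, ho, h5⟩ := ito_exists_central S.isPGroup' h0
    have hP : P ≠ ⊥ := fun e => h.prime.one_lt.ne' (by
      have : z ∈ P := h1 ⟨hz, fun x hx => (mem_cent.1 (h5 hx)).eq⟩
      rw [e, mem_bot] at this
      rw [← ho, this, orderOf_one])
    refine (Nat.not_even_iff_odd.2 (hO P hP (S.isPGroup'.to_le h3))) (even_iff_two_dvd.2 ?_)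
    refine ((even_sl2 h2).trans ?_).trans (card_dvd_of_le h4)
    rw [← Nat.card_congr e.toEquiv]
    exact card_quotient_dvd_card _) v hv _ hgS).1 ⟨g, rfl⟩
  rw [centerThompsonAOf_eq] at hn
  exact (mem_normalizer_iff.1 hn v).2 (e ▸ zle _ ⟨hgS, hg⟩)

theorem two_cases [Fact s.Prime] (h : BP G n₁ n₂ c s) {S : Subgroup G} (hS : IsPGroup s S) {v : G} (hv : v ∈ S)
    (h1 : v ≠ 1) : cs(v) = n₂ ∨ cs(v) = c := by
  refine (h.alpha h1 h.prime h.dvd (dvd_trans ?_ (orderOf_dvd_card_cent v))).2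
  have hm := Nat.minFac_prime (mt orderOf_eq_one_iff.1 h1)
  exact isPiElt_singleton_of_mem hS hv _ hm (Nat.minFac_dvd _) ▸ Nat.minFac_dvd _

theorem out [Fact s.Prime] (h : BP G n₁ n₂ c s) {S : Subgroup G} (hS : IsPGroup s S) {y v g : G} (hy : y ∈ S)
    (hc : cs(y) = n₂) (hB : S ≤ cent(y)) (hv : v ∈ S) (hv' : cs(v) = c) (hg : g ∈ S) (hg' : cs(g) = c) :
    g ∈ cent(v) := by
  obtain ⟨k, hk, ec⟩ := h.pow
  have h0 : 0 < n₂ := by have := h.lt₂; omega
  have hyM : y ∈ cent(v) := mem_cent_comm.1 (hB hv)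
  have hMB : cent(v) ≤ cent(y) := h.ab v hv' y hyM
  obtain ⟨-, A, -, hA, -⟩ := exists_direct_in (p := s) (C := cent(v)) fun w hw _ => by
    rw [relIndex_eq_one.2 (h.ab v hv' w hw)]
    exact h.prime.not_dvd_one
  have hAM : A ≤ cent(v) := fun w hw => ((hA w).1 hw).1
  have hi : ∃ i, A.relIndex cent(v) = s ^ i := by
    refine ⟨_, Nat.eq_prime_pow_of_unique_prime_dvd index_ne_zero_of_finite fun {q} hq hd => ?_⟩
    by_contra hq2
    have := Fact.mk hq
    obtain ⟨Q, hQ⟩ := exists_isSylowIn q cent(v)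
    exact hQ.not_dvd_relIndex_of_le
      (fun x hx => (hA x).2 ⟨hQ.le hx, ito_ne hq2 (isPiElt_singleton_of_mem hQ.isPGroup hx)⟩) hAM hd
  obtain ⟨i, hi⟩ := hi
  have hj : A.relIndex cent(y) = s ^ (i + k) := by
    have e1 := relIndex_mul_index hAM
    have e2 := relIndex_mul_index (hAM.trans hMB)
    rw [hi, hv', ec, ← e2, hc] at e1
    exact Nat.eq_of_mul_eq_mul_right h0 (by rw [← e1, pow_add, mul_assoc])
  have hn := pq (p := s) (h.solv y hc) (hB hv) (isPiElt_singleton_of_mem hS hv) (hAM.trans hMB)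
    (coprime_card_of_forall_isPiElt fun x hx => ((hA x).1 hx).2) hj
    fun x hx w hw => (mem_cent.1 (h.ab v hv' w (hAM hw) hx.1)).symm
  obtain ⟨p, hp, hps, hp1⟩ := h.two₁ s
  have := Fact.mk hp
  have hd : p ∣ Nat.card cent(g) := by
    have e := card_cent_mul_cs g
    rw [hg', ec, h.card, ← mul_assoc] at e
    rw [← Nat.eq_of_mul_eq_mul_right h0 e] at hp1
    exact (hp.dvd_mul.1 hp1).resolve_right fun h1 =>
      hps ((Nat.prime_dvd_prime_iff_eq hp h.prime).1 (hp.dvd_of_dvd_pow h1))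
  obtain ⟨⟨w, hw⟩, ho⟩ := exists_prime_orderOf_dvd_card' p hd
  rw [orderOf_mk] at ho
  obtain ⟨hw1, hw2⟩ := ito_piElt_of_orderOf hp ho
  have hwB : w ∈ cent(y) := h.ab g hg' y (mem_cent_comm.1 (hB hg)) hw
  have hN := (normal_subgroupOf_iff_le_normalizer (hAM.trans hMB)).2 hn
  have hwA : w ∈ A := mem_subgroupOf.1 (IsPiElt.mem_of_index (π := {s}ᶜ) (N := A.subgroupOf cent(y))
    (by rw [compl_compl, show (A.subgroupOf cent(y)).index = _ from hj]; exact isPiNum_singleton_pow h.prime _)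
    (x := ⟨w, hwB⟩) (isPiElt_coe_iff.1 (ito_ne hps hw1)))
  have hcw : cs(w) = c := (h.alpha hw2 hp hp1 (ho ▸ orderOf_dvd_card_cent w)).2.resolve_left fun e =>
    hps (h.sel w e p hp (ho ▸ dvd_rfl))
  rw [cent_eq_of_le_of_cs_le (h.ab v hv' w (hAM hwA)) (hv'.trans hcw.symm).le]
  exact mem_cent_comm.1 hw

end B3

open B3

theorem jB3 : JB3.{u} := by
  intro G _ _ n₁ n₂ c s h hO X hX
  have := Fact.mk h.prime
  obtain ⟨S, hXS⟩ := hX.exists_le_sylow
  have h0 : (S : Subgroup G) ≠ ⊥ := ito_sylow_ne_bot (h.card ▸ h.dvd.mul_right _) S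
  have hP := S.isPGroup'
  suffices h1 : (S : Subgroup G) ≤ centerThompsonOf 0 (S : Subgroup G) from fun x hx y hy =>
    centerThompsonOf_le_centralizer _ (h1 (hXS hx)) y (h1 (hXS hy))
  intro v hv
  by_cases hv1 : v = 1
  · exact hv1 ▸ one_mem _
  refine (two_cases h hP hv hv1).elim (memZ h hO S h0 hv) fun hv' => ?_
  obtain ⟨y, hy, ho, hB⟩ := ito_exists_central hP h0
  have hc : cs(y) = n₂ := (two_cases h hP hy (ito_piElt_of_orderOf h.prime ho).2).resolve_right fun e =>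
    not_dvd_cs_iff.2 ⟨S, hB⟩ (e ▸ sc h)
  have key : ∀ g ∈ (S : Subgroup G), g ∉ cent(v) → g ∈ centerThompsonOf 0 (S : Subgroup G) := fun g hg h1 =>
    memZ h hO S h0 hg ((two_cases h hP hg fun e => h1 (e ▸ one_mem _)).resolve_right fun e =>
      h1 (out h hP hy hc hB hv hv' hg e))
  obtain ⟨g, hg, h1⟩ := SetLike.not_le_iff_exists.1 fun hle : (S : Subgroup G) ≤ cent(v) =>
    not_dvd_cs_iff.2 ⟨S, hle⟩ (hv' ▸ sc h)
  exact (mul_mem_cancel_right (key g hg h1)).1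
    (key _ (mul_mem hv hg) fun h2 => h1 ((mul_mem_cancel_left (self_mem_cent v)).1 h2))

end CL.Rk5
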