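/-
Simple groups of conjugate type rank five: the final configuration of the case `BB`.
-/
import Cfsg.Agent.Rk5.Defs

set_option autoImplicit false

universe u

namespace CL.Rk5

open Subgroup Cfsg CL.Grp CL.Fgs CL.Cit CL.Rk4
open scoped MatrixGroups Classical

theorem jB4 : JB4.{u} := by
  intro hn G _ _ n₁ n₂ c s h hsn hol hab
  have := Fact.mk h.prime
  obtain ⟨p, hp, ps, pn⟩ := h.two₁ s
  have := Fact.mk hp
  obtain ⟨y, y1, hy⟩ := h.ex₂
  obtain ⟨⟨w, wB⟩, hw⟩ := exists_prime_orderOf_dvd_card' (G := cent(y)) p (h.toAL.card₂ hy ▸ pn)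
  rw [← orderOf_coe] at hw
  change orderOf w = p at hw
  have w1 : w ≠ 1 := fun e => hp.one_lt.ne' (by rw [← hw, e, orderOf_one])
  have ws : IsPiElt {s}ᶜ w := (isPiElt_compl_singleton_iff h.prime).2 fun e =>
    ps ((Nat.prime_dvd_prime_iff_eq h.prime hp).1 (hw ▸ e)).symm
  have csc : ∀ v : G, v ≠ 1 → IsPiElt {s}ᶜ v → p ∣ Nat.card cent(v) → cs(v) = c := fun v v1 hv hd =>
    (h.toAL.alpha v1 hp pn hd).2.resolve_left fun e => v1 ((h.sel v e).eq_one hv)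
  have pM : p ∣ Nat.card cent(w) := hw ▸ orderOf_dvd_card_cent w
  have cw := csc w w1 ws pM
  have ab := h.ab w cw
  have yM : y ∈ cent(w) := mem_cent_comm.1 wB
  have MB := ab y yM
  have BN := hn G n₁ n₂ c s h hsn hab w y (hw ▸ hp) (hw ▸ ps) (hw ▸ pn) hy (mem_cent.1 yM)
  obtain ⟨S₀, H, h0, hH, -⟩ := exists_direct_in (p := s) (C := cent(w)) fun v hv _ => by
    rw [relIndex_eq_one.2 (ab v hv)]; exact h.prime.not_dvd_one
  obtain ⟨S, hS, le0⟩ := exists_isSylowIn_ge (isPGroup_of_forall_isPiElt fun x hx => ((h0 x).1 hx).2) (le_top (a := S₀))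
  have abS := hab S hS.isPGroup
  have Sc : ∀ x ∈ S, S ≤ cent(x) := fun x hx t ht => mem_cent.2 (abS hx t ht)
  have y0 : y ∈ S₀ := (h0 y).2 ⟨yM, h.sel y hy⟩
  have wH : w ∈ H := (hH w).2 ⟨self_mem_cent w, ws⟩
  have SB := Sc y (le0 y0)
  have cv : ∀ v ∈ H, v ≠ 1 → cent(v) = cent(w) := fun v hv v1 =>
    (cent_eq_of_le_of_cs_le (ab v ((hH v).1 hv).1) (cw.trans (csc v v1 ((hH v).1 hv).2
      (pM.trans (card_dvd_of_le (ab v ((hH v).1 hv).1)))).symm).le).symm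
  have m0 : ∀ x ∈ S, x ∈ cent(w) → x ∈ S₀ := fun x hx hx' => (h0 x).2 ⟨hx', isPiElt_singleton_of_mem hS.isPGroup hx⟩
  obtain ⟨k, hk, ec⟩ := h.pow
  have sc : s ∣ c := ec ▸ (dvd_pow_self s (by omega)).mul_right _
  have ns : ∀ x : G, S ≤ cent(x) → ¬ s ∣ cs(x) := fun x hx e =>
    hS.not_dvd (relIndex_top_right S ▸ e.trans (index_dvd_of_le hx))
  have nM : ¬ S ≤ cent(w) := fun e => ns w e (cw ▸ sc)
  have BH : cent(y) ≤ normalizer (H : Set G) := fun g hg => mem_normalizer_fintype fun v hv =>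
    (hH _).2 ⟨(mem_normalizer_iff.1 (BN hg) v).1 ((hH v).1 hv).1, ((hH v).1 hv).2.conj g⟩
  have dec : ∀ b ∈ cent(y), ∃ v ∈ H, ∃ t ∈ S, b = v * t := fun b hb => by
    have e1 := relIndex_mul_index MB
    rw [cw, hy, ec] at e1
    obtain ⟨m, hm, t, ht, rfl⟩ := (hS.of_le SB le_top).exists_mul_eq_of_relIndex_pow
      (Nat.eq_of_mul_eq_mul_right (by have := h.lt₂; omega) e1) hb
    exact ⟨piPart {s}ᶜ m, (hH _).2 ⟨piPart_mem hm, isPiElt_piPart _ m⟩, piPart {s} m * t,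
      mul_mem (le0 ((h0 _).2 ⟨piPart_mem hm, isPiElt_piPart _ m⟩)) ht, by rw [← mul_assoc, piPart_compl_mul_piPart]⟩
  refine ⟨S, S₀, H, cent(y), h.prime, hS, abS, fun e => y1 (mem_bot.1 (e ▸ y0)),
    lt_of_le_of_ne le0 fun e => nM fun x hx => ((h0 x).1 (e ▸ hx)).1, fun e => w1 (mem_bot.1 (e ▸ wH)), SB.trans BH,
    le_antisymm (fun x hx => m0 x hx.1 (mem_cent'.2 (hx.2 w wH))) fun x hx =>
      ⟨le0 hx, fun v hv => mem_cent.1 (ab x ((h0 x).1 hx).1 ((hH v).1 hv).1)⟩,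
    fun g hg v hv v1 e => m0 g hg (cv v hv v1 ▸ mem_cent.2 e), fun x hx x1 => ?_, hsn y hy, fun g hg => ?_,
    fun x hx => ?_, hol S (fun e => y1 (mem_bot.1 (e ▸ le0 y0))) hS.isPGroup⟩
  · have h1 : cent(y) ≤ cent(x) := fun b hb => by
      obtain ⟨v, hv, t, ht, rfl⟩ := dec b hb
      exact mul_mem (ab x ((h0 x).1 hx).1 ((hH v).1 hv).1) (Sc x (le0 hx) ht)
    exact (cent_eq_of_le_of_cs_le h1 (hy.trans (h.head₂ x x1 (hy ▸ cs_dvd_of_le h1)).symm).le).symm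
  · obtain ⟨v, hv, t, ht, rfl⟩ := dec g hg.2
    have vN : v ∈ normalizer (S : Set G) := (mul_mem_cancel_right (le_normalizer ht)).1 hg.1
    by_cases v1 : v = 1
    · rwa [v1, one_mul]
    · refine (nM fun x hx => cv v hv v1 ▸ mem_cent'.2 ?_).elim
      have h1 : v * x * v⁻¹ * x⁻¹ ∈ S := mul_mem ((mem_normalizer_iff.1 vN x).1 hx) (inv_mem hx)
      have h2 : v * x * v⁻¹ * x⁻¹ ∈ H := by
        have := mul_mem hv ((mem_normalizer_iff.1 (BH (SB hx)) _).1 (inv_mem hv))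
        rwa [← mul_assoc, ← mul_assoc] at this
      exact commutatorElement_eq_one_iff_commute.1
        ((isPiElt_singleton_of_mem hS.isPGroup h1).eq_one ((hH _).1 h2).2)
  · by_cases x1 : x = 1
    · exact ⟨1, by simp [x1]⟩
    have h1 := ns x (Sc x hx)
    have h2 : s ∣ Nat.card cent(x) := (h.prime.dvd_mul.1 (by
      rw [card_cent_mul_cs, h.card]; exact h.dvd.mul_right _)).resolve_right h1
    have h3 := (h.toAL.alpha x1 h.prime h.dvd h2).2.resolve_right fun e => h1 (e ▸ sc)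
    obtain ⟨P, hP⟩ := IsPiElt.exists_mem_sylow (p := p) (x := w) fun q hq hd =>
      (Nat.prime_dvd_prime_iff_eq hq hp).1 (hw ▸ hd)
    obtain ⟨g, hg⟩ := exists_conj_mem_centralizer_of_not_dvd_cs (x := x) (fun e => hp.one_lt.ne'
      (Nat.eq_one_of_dvd_coprimes h.cop pn (h3 ▸ e))) P
    exact ⟨g, (h0 _).2 ⟨mem_cent'.2 (hg w hP), (isPiElt_singleton_of_mem hS.isPGroup hx).conj g⟩⟩

end CL.Rk5
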