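/-
Simple groups of conjugate type rank five (S3194): the centralizer of an element of class size `n₂`
normalizes the centralizers of the commuting elements of prime order different from `s`.
-/
import Cfsg.Agent.Rk5.Defs
import Cfsg.Agent.Grp.PNilp

set_option autoImplicit false

universe u

namespace CL.Rk5

open Subgroup Cfsg CL.Grp CL.Fgs CL.Cit CL.Rk4
open scoped MatrixGroups Classical

namespace B4na

variable {G : Type u} [Group G]

theorem mem_norm {v b : G} (h : cent(b * v * b⁻¹) = cent(v)) : b ∈ normalizer (cent(v) : Set G) := by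
  rw [mem_normalizer_iff]
  intro x
  rw [← conj_mem_cent_conj (g := b), h]

variable [Finite G]

/-- Burnside's transfer theorem in a non-abelian simple group -/
theorem burn (h : NAS G) {p : ℕ} [hp : Fact p.Prime] (P : Sylow p G) (hd : p ∣ Nat.card G) :
    ¬ normalizer (P : Set G) ≤ centralizer (P : Set G) := fun hn => by
  obtain ⟨Q, N, hN, hc⟩ := hasNormalPComplement_of_normalizer_le_centralizer P hn
  rcases h.1.eq_bot_or_eq_top_of_normal N hN with e | e
  · subst e
    have hQ : (Q : Subgroup G) = ⊤ := isComplement'_bot_left.1 hc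
    have h1 : IsPGroup p (⊤ : Subgroup G) := hQ ▸ Q.isPGroup'
    have h2 : IsPGroup p G := h1.of_equiv topEquiv
    have := h2.isNilpotent
    exact h.not_solvable inferInstance
  · subst e
    exact ito_sylow_ne_bot hd Q (isComplement'_top_left.1 hc)

/-- in a solvable group with abelian `s`-subgroups and no other cores, `O_s` has all `s`-elements -/
theorem mem_pCore {X : Type u} [Group X] [Finite X] (hX : Group.IsSolvable X) {s : ℕ}
    [Fact s.Prime] (hab : ∀ T : Subgroup X, IsPGroup s T → T ≤ centralizer (T : Set X))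
    (hq : ∀ (q : ℕ) [Fact q.Prime], q ≠ s → pCore q X = ⊥) {t : X} (ht : IsPiElt {s} t) :
    t ∈ pCore s X := by
  have hF : fittingSubgroup X ≤ pCore s X := fittingSubgroup_le_of_forall_pCore_le fun q _ => by
    by_cases e : q = s
    · subst e; exact le_rfl
    · rw [hq q e]; exact bot_le
  have h1 := hab _ (IsPGroup.to_sup_of_normal_right ht.isPGroup_zpowers (pCore_isPGroup s X))
  refine hF (centralizer_fittingSubgroup_le X fun a ha => ?_)
  exact h1 (mem_sup_left (mem_zpowers t)) a (mem_sup_right (hF ha))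

end B4na

open B4na in
theorem jB4n : JB4n.{u} := by
  intro G _ _ n₁ n₂ c s h hsn hab w y hw hws hwn hy hc
  have hs := Fact.mk h.prime
  have hp := Fact.mk hw
  have hw1 : w ≠ 1 := (ito_piElt_of_orderOf hw rfl).2
  -- class sizes of the elements of `M = cent w` that are not `s`-elements
  have hcs : ∀ v ∈ cent(w), ¬ IsPiElt {s} v → cs(v) = c := fun v hv hv' => by
    have hv1 : v ≠ 1 := fun e => hv' (e ▸ isPiElt_one _)
    exact (h.toAL.alpha hv1 hw hwn (orderOf_dvd_natCard _ (mem_cent_comm.1 hv))).2.resolve_left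
      fun e => hv' (h.sel v e)
  have hq : ∀ {q : ℕ} {v : G}, q ≠ s → IsPiElt {q} v → v ≠ 1 → ¬ IsPiElt {s} v :=
    fun hq hv hv1 hv' => hv1 (hv'.eq_one (ito_ne hq hv))
  have hwc : cs(w) = c := hcs w (self_mem_cent w) (hq hws (ito_piElt_of_orderOf hw rfl).1 hw1)
  have hM : ∀ v ∈ cent(w), cent(w) ≤ cent(v) := h.ab w hwc
  have hA : ∀ v ∈ cent(w), ¬ IsPiElt {s} v → cent(v) = cent(w) := fun v hv hv' =>
    (cent_eq_of_le_of_cs_le (hM v hv) (hwc.trans (hcs v hv hv').symm).le).symm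
  have hyM : y ∈ cent(w) := mem_cent.2 hc
  have hMB : cent(w) ≤ cent(y) := hM y hyM
  obtain ⟨k, -, hk⟩ := h.pow
  have hn₂ : 0 < n₂ := by have := h.lt₂; omega
  have hrel : (cent(w)).relIndex cent(y) = s ^ k := by
    have := relIndex_mul_index hMB
    rw [hy, hwc, hk] at this
    exact Nat.eq_of_mul_eq_mul_right hn₂ this
  by_cases hq0 : ∀ (q : ℕ) [Fact q.Prime], q ≠ s → pCore q cent(y) = ⊥
  swap
  · push Not at hq0
    obtain ⟨q, hqp, hqs, hne⟩ := hq0
    have hW : pCore q cent(y) ≤ (cent(w)).subgroupOf cent(y) := by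
      apply le_of_normal_of_coprime_index
      obtain ⟨j, hj⟩ := (pCore_isPGroup q cent(y)).exists_card_eq
      rw [hj]
      change (q ^ j).Coprime ((cent(w)).relIndex cent(y))
      rw [hrel]
      exact Nat.Coprime.pow _ _ ((Nat.coprime_primes hqp.out h.prime).2 hqs)
    have hW' : ∀ v ∈ pCore q cent(y), v ≠ 1 → cent((v : G)) = cent(w) := fun v hv hv1 =>
      hA v (hW hv) (hq hqs (isPiElt_coe_iff.2 (isPiElt_singleton_of_mem (pCore_isPGroup q _) hv))
        fun e => hv1 (Subtype.ext e))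
    obtain ⟨⟨v, hv⟩, hv1⟩ := ne_bot_iff_exists_ne_one.1 hne
    have hv1' : v ≠ 1 := fun e => hv1 (Subtype.ext e)
    intro b hb
    have e1 := hW' v hv hv1'
    have e2 := hW' (⟨b, hb⟩ * v * ⟨b, hb⟩⁻¹) ((inferInstance : (pCore q cent(y)).Normal).conj_mem v hv _)
      (by simpa using hv1')
    rw [← e1]
    exact mem_norm (e2.trans e1.symm)
  exfalso
  have habX : ∀ T : Subgroup cent(y), IsPGroup s T → T ≤ centralizer (T : Set cent(y)) :=
    fun T hT a ha b hb => Subtype.ext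
      (hab _ (hT.map (cent(y)).subtype) (mem_map_of_mem _ ha) b (mem_map_of_mem _ hb))
  have hS : ∀ t : cent(y), IsPiElt {s} t → t ∈ pCore s cent(y) := fun t ht =>
    mem_pCore (h.solv y hy) habX hq0 ht
  -- `B = M S`
  have hMS : (cent(w)).subgroupOf cent(y) ⊔ pCore s cent(y) = ⊤ := by
    obtain ⟨T⟩ : Nonempty (Sylow s cent(y)) := inferInstance
    have h1 := not_dvd_index_of_sylow_le T (H := (cent(w)).subgroupOf cent(y) ⊔ pCore s cent(y))
      fun t ht => mem_sup_right (hS t (isPiElt_singleton_of_mem T.isPGroup' ht))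
    have h2 : ((cent(w)).subgroupOf cent(y) ⊔ pCore s cent(y)).index ∣ s ^ k :=
      hrel ▸ index_dvd_of_le le_sup_left
    obtain ⟨j, -, hj⟩ := (Nat.dvd_prime_pow h.prime).1 h2
    rcases j with _ | j
    · exact index_eq_one.1 hj
    · exact absurd (hj ▸ dvd_pow_self s j.succ_ne_zero) h1
  have hpc : ¬ orderOf w ∣ cs(w) := by
    rw [hwc, hk]
    intro hd
    rcases (Nat.Prime.dvd_mul hw).1 hd with hd | hd
    · exact hws ((Nat.prime_dvd_prime_iff_eq hw h.prime).1 (hw.dvd_of_dvd_pow hd))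
    · exact hw.one_lt.ne' (Nat.eq_one_of_dvd_coprimes h.cop hwn hd)
  obtain ⟨P, hP⟩ := exists_sylow_le_of_not_dvd_index hpc
  have hPe : ∀ v ∈ (P : Subgroup G), IsPiElt {orderOf w} v := fun v hv =>
    isPiElt_singleton_of_mem P.isPGroup' hv
  have hP' : ∀ v ∈ (P : Subgroup G), v ≠ 1 → cent(v) = cent(w) := fun v hv hv1 =>
    hA v (hP hv) (hq hws (hPe v hv) hv1)
  obtain ⟨⟨v, hv⟩, hv1⟩ := ne_bot_iff_exists_ne_one.1 (ito_sylow_ne_bot (orderOf_dvd_natCard w) P)
  have hv1' : v ≠ 1 := fun e => hv1 (Subtype.ext e)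
  refine burn h.nas P (orderOf_dvd_natCard w) fun n hn => ?_
  have hn' := mem_normalizer_iff.1 hn
  have hnM : n ∈ normalizer (cent(w) : Set G) := by
    have e1 := hP' v hv hv1'
    have e2 := hP' (n * v * n⁻¹) ((hn' v).1 hv) (by simpa using hv1')
    rw [← e1]
    exact mem_norm (e2.trans e1.symm)
  have hy1 : n * y * n⁻¹ ∈ cent(w) := (mem_normalizer_iff.1 hnM y).1 hyM
  have hy1S := hS ⟨_, hMB hy1⟩ (isPiElt_coe_iff.1 ((h.sel y hy).conj n))
  have hB : cent(y) ≤ cent(n * y * n⁻¹) := fun b hb => by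
    have h1 : (cent(w)).subgroupOf cent(y) ⊔ pCore s cent(y) ≤
        (cent(n * y * n⁻¹)).subgroupOf cent(y) :=
      sup_le (fun a ha => hM _ hy1 ha) fun a ha => mem_cent'.2
        (congrArg Subtype.val (habX _ (pCore_isPGroup s _) ha _ hy1S))
    rw [hMS] at h1
    exact h1 (mem_top ⟨b, hb⟩)
  have hnB : n ∈ cent(y) :=
    hsn y hy (mem_norm (cent_eq_of_le_of_cs_le hB (cs_conj n y).ge).symm)
  intro u hu
  have huB : u ∈ cent(y) := hMB (hP hu)
  have h1 : n * u * n⁻¹ * u⁻¹ ∈ (P : Subgroup G) := mul_mem ((hn' u).1 hu) (inv_mem hu)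
  have h2 : (⟨n, hnB⟩ * ⟨u, huB⟩ * ⟨n, hnB⟩⁻¹ * ⟨u, huB⟩⁻¹ : cent(y)) ∈ pCore s cent(y) := by
    have h3 : (⟨n, hnB⟩ : cent(y)) ∈ (cent(w)).subgroupOf cent(y) ⊔ pCore s cent(y) :=
      hMS ▸ mem_top _
    obtain ⟨m, hm, t, ht, e⟩ := mem_sup_of_normal_right.1 h3
    have hN : (pCore s cent(y)).Normal := inferInstance
    have hmu : m * ⟨u, huB⟩ = ⟨u, huB⟩ * m := Subtype.ext (mem_cent.1 (hM u (hP hu) hm))
    have h4 := hN.conj_mem _ (mul_mem ht (hN.conj_mem _ (inv_mem ht) ⟨u, huB⟩)) m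
    convert h4 using 1
    rw [← e]
    have : m⁻¹ * (⟨u, huB⟩ : cent(y))⁻¹ = (⟨u, huB⟩ : cent(y))⁻¹ * m⁻¹ := by
      rw [← mul_inv_rev, ← mul_inv_rev, hmu]
    simp only [mul_inv_rev, mul_assoc, this]
  have h3 : n * u * n⁻¹ * u⁻¹ = 1 :=
    (isPiElt_coe_iff.2 (isPiElt_singleton_of_mem (pCore_isPGroup s _) h2)).eq_one
      (ito_ne hws (hPe _ h1))
  rw [mul_inv_eq_one, mul_inv_eq_iff_eq_mul] at h3
  exact h3.symm

end CL.Rk5
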