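/-
Project RK5 (S3194), job B5 (helper81): counting in an abelian Sylow subgroup.
-/
import Cfsg.Agent.Rk5.Defs
import Cfsg.Agent.Even.CharP
import Cfsg.Agent.Cit.Ito1

set_option autoImplicit false

universe u

namespace CL.Rk5

open Subgroup Cfsg CL.Grp CL.Fgs CL.Cit CL.Rk4
open scoped MatrixGroups Classical

namespace B5

open CL.Even

variable {G : Type*} [Group G] [Finite G] {s : ℕ} {S S₀ H B : Subgroup G} (h : AbS s S S₀ H B)
include h

theorem fus {w : G} (hw : w ∈ S) : ∃ n ∈ 𝒩(S), n * w * n⁻¹ ∈ S₀ := by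
  have := Fact.mk h.prime
  obtain ⟨P, rfl⟩ := isSylowIn_top_iff.1 h.syl
  obtain ⟨g, hg⟩ := h.cover w hw
  obtain ⟨n, hn, e⟩ := P.conj_eq_normalizer_conj_of_mem_centralizer w g⁻¹ (h.ab hw)
    (by rw [inv_inv]; exact h.ab (h.lt.le hg))
  rw [inv_inv] at e
  exact ⟨n⁻¹, inv_mem hn, by rw [inv_inv, ← e]; exact hg⟩

theorem uniq {w n : G} (hw : w ∈ S₀) (h1 : w ≠ 1) (hn : n ∈ 𝒩(S)) (e : n * w * n⁻¹ ∈ S₀) : n ∈ S := by
  refine h.nb ⟨hn, h.selfn (mem_norm_of_cj_le fun x hx => ?_)⟩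
  rw [← h.cen _ e (by simpa [mul_inv_eq_iff_eq_mul] using h1), mem_cent_conj, h.cen w hw h1]
  exact mem_cj.1 hx

theorem count : S.relIndex 𝒩(S) * ((𝒞(H) ⊓ omegaOneCenter s S : Subgroup G) \ {1} : Set G).ncard =
    (omegaOneCenter s S \ {1} : Set G).ncard := by
  have nO : 𝒩(S) ≤ 𝒩(omegaOneCenter s S) := norm_le_norm_ozc S
  have m0 : ∀ {w : G}, w ∈ 𝒞(H) ⊓ omegaOneCenter s S → w ∈ S₀ := fun hw => h.inf ▸ ⟨ozc_le S hw.2, hw.1⟩
  let F : (𝒩(S) ⧸ S.subgroupOf 𝒩(S)) × ((𝒞(H) ⊓ omegaOneCenter s S : Subgroup G) \ {1} : Set G) →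
      (omegaOneCenter s S \ {1} : Set G) := fun a =>
    ⟨a.1.out * a.2 * (a.1.out : G)⁻¹, conj_mem (nO a.1.out.2) a.2.2.1.2, by
      simpa [mul_inv_eq_iff_eq_mul] using a.2.2.2⟩
  have hF : Function.Bijective F := by
    refine ⟨?_, ?_⟩
    · rintro ⟨a, v, hv⟩ ⟨b, w, hw⟩ e
      have e1 : (a.out : G) * v * (a.out : G)⁻¹ = b.out * w * (b.out : G)⁻¹ := congrArg Subtype.val e
      have e2 : (a.out : G)⁻¹ * b.out * w * ((a.out : G)⁻¹ * b.out)⁻¹ = v := by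
        calc _ = (a.out : G)⁻¹ * (b.out * w * (b.out : G)⁻¹) * a.out := by group
          _ = v := by rw [← e1]; group
      have e3 := uniq h (m0 hw.1) hw.2 (mul_mem (inv_mem a.out.2) b.out.2) (e2 ▸ m0 hv.1)
      obtain rfl : a = b := by
        rw [← QuotientGroup.out_eq' a, ← QuotientGroup.out_eq' b, QuotientGroup.eq]
        exact e3
      exact Prod.ext rfl (Subtype.ext (by simpa using e1))
    · rintro ⟨w, hw, h1⟩
      obtain ⟨n, hn, e⟩ := fus h (ozc_le S hw)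
      obtain ⟨t, ht⟩ := QuotientGroup.mk_out_eq_mul (S.subgroupOf 𝒩(S)) ⟨n, hn⟩⁻¹
      refine ⟨⟨((⟨n, hn⟩⁻¹ : 𝒩(S)) : _ ⧸ _), _, ⟨(h.inf.ge e).2, conj_mem (nO hn) hw⟩, by
        simpa [mul_inv_eq_iff_eq_mul] using h1⟩, Subtype.ext ?_⟩
      change _ * (n * w * n⁻¹) * _ = w
      rw [ht]
      calc _ = n⁻¹ * ((t : 𝒩(S)) * (n * w * n⁻¹) * ((t : 𝒩(S)) : G)⁻¹) * n := by simp [mul_assoc]
        _ = w := by rw [conj_eq_of_mem (g := ((t : 𝒩(S)) : G)) (h.ab t.2) (h.lt.le e)]; group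
  have := Nat.card_eq_of_bijective F hF
  rwa [Nat.card_prod, Nat.card_coe_set_eq, Nat.card_coe_set_eq] at this

omit h in
theorem card_eq (K : Subgroup G) : (K \ {1} : Set G).ncard + 1 = Nat.card K :=
  (Set.ncard_sdiff_singleton_add_one K.one_mem).trans (Nat.card_coe_set_eq _).symm

end B5

open CL.Even in
theorem jB5 : JB5.{u} := by
  intro G _ _ s S S₀ H B h
  have := Fact.mk h.prime
  have m0 : ∀ {w : G}, w ∈ S₀ → w ∈ 𝒞(H) := fun hw => (h.inf.ge hw).2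
  have e1 := B5.count h
  have e2 := B5.card_eq (𝒞(H) ⊓ omegaOneCenter s S)
  have e3 := B5.card_eq (omegaOneCenter s S)
  have e4 := card_inf_mul_relIndex 𝒞(H) (omegaOneCenter s S)
  have e5 : 𝒞(H).relIndex (omegaOneCenter s S) ∣ s := ito_relIndex_dvd_of_fpf h.H_ne ((ozc_le S).trans h.norm)
    (fun x hx v hv h1 c => m0 (h.fpf x (ozc_le S hx) v hv h1 c))
    (fun a ha b hb => by
      rw [commutatorElement_eq_one_iff_mul_comm.2 (comm_of_mem (ozc_le_cent S hb) (ozc_le S ha))]; exact one_mem _)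
    fun a ha => by rw [(mem_ozc.1 ha).2.2]; exact one_mem _
  obtain ⟨x, hx, x1, xs⟩ := exists_mem_pow_eq_one (h.syl.isPGroup.to_le h.lt.le) h.ne
  have o : orderOf x = s := orderOf_eq_prime xs x1
  have e6 : s ∣ Nat.card ↥(𝒞(H) ⊓ omegaOneCenter s S) :=
    o.symm.dvd.trans (Subgroup.orderOf_dvd_natCard _ ⟨m0 hx, mem_ozc.2 ⟨h.lt.le hx, h.ab (h.lt.le hx), xs⟩⟩)
  have o1 : Odd s := h.odd.of_dvd_nat (o ▸ orderOf_dvd_natCard _ (le_normalizer (h.lt.le hx)))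
  have o2 : Odd (S.relIndex 𝒩(S)) := h.odd.of_dvd_nat (index_dvd_card _)
  have s2 := h.prime.two_le
  rw [← e2] at e6
  rw [← e2, ← e3, ← e1] at e4
  generalize ((𝒞(H) ⊓ omegaOneCenter s S : Subgroup G) \ {1} : Set G).ncard = a at e4 e6
  have e7 := Nat.le_of_dvd a.succ_pos e6
  rcases (Nat.dvd_prime h.prime).1 e5 with e | e <;> rw [e] at e4
  · have h1 : S.relIndex 𝒩(S) = 1 := Nat.eq_of_mul_eq_mul_right (show 0 < a by omega) (by omega)
    refine h.lt.not_ge fun w hw => ?_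
    obtain ⟨n, hn, e⟩ := B5.fus h hw
    rwa [conj_eq_of_mem (h.ab (relIndex_eq_one.1 h1 hn)) hw] at e
  · obtain ⟨r, rfl⟩ : ∃ r, s = r + 1 := ⟨s - 1, by omega⟩
    generalize S.relIndex 𝒩(S) = φ at e4 o2
    have h1 : a ∣ r := (Nat.dvd_add_right (Dvd.intro (r + 1) rfl)).1 ⟨φ, by linarith⟩
    obtain rfl : a = r := le_antisymm (Nat.le_of_dvd (by omega) h1) (by omega)
    obtain rfl : φ = a + 2 := Nat.eq_of_mul_eq_mul_right (show 0 < a by omega) (by linarith)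
    rw [Nat.odd_iff] at o1 o2
    omega

end CL.Rk5
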