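/-
Rank five: characters of a group with a solvable Frobenius kernel.
-/
import Cfsg.Agent.Rk5.Defs
import Cfsg.Agent.Char.FrobChar
import Cfsg.Agent.Char.Kernel

set_option autoImplicit false

universe u

namespace CL.Rk5

open Subgroup Cfsg CL.Grp CL.Fgs CL.Cit CL.Rk4 CL.Char
open scoped MatrixGroups Classical

namespace ChA

theorem exists_lin (K : Type*) [Group K] [Finite K] [Nontrivial K] (hs : Group.IsSolvable K) :
    ∃ lam : K →* ℂˣ, ∃ k, lam k ≠ 1 := by
  have h1 : commutator K ≠ ⊤ := (IsSolvable.commutator_lt_top_of_nontrivial K).ne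
  obtain ⟨k, hk⟩ : ∃ k, k ∉ commutator K := by
    by_contra h
    push Not at h
    exact h1 (eq_top_iff.2 fun x _ => h x)
  have hk' : Abelianization.of k ≠ 1 := fun h => hk (by
    rw [← Abelianization.ker_of]; exact h)
  haveI : Finite (Abelianization K) := Finite.of_surjective _
    (QuotientGroup.mk'_surjective (commutator K))
  haveI : NeZero ((Monoid.exponent (Abelianization K) : ℕ) : ℂ) :=
    ⟨Nat.cast_ne_zero.2 Monoid.exponent_ne_zero_of_finite⟩
  obtain ⟨φ, hφ⟩ := CommGroup.exists_apply_ne_one_of_hasEnoughRootsOfUnity (Abelianization K) ℂ hk'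
  exact ⟨φ.comp Abelianization.of, k, hφ⟩

theorem sum_all {L : Type*} [Group L] [Finite L] (g : L) :
    ∑ χ : IrrCharacter L, (χ : L → ℂ) 1 * (χ : L → ℂ) g = if g = 1 then (Nat.card L : ℂ) else 0 := by
  split_ifs with h
  · subst h
    rw [← sum_charDegree_sq (G := L)]
    push_cast
    refine Finset.sum_congr rfl fun χ _ => ?_
    rw [χ.2.cast_charDegree, sq]
  · exact burnside_sum_degree_mul h

end ChA

theorem jChA : JChA.{u} := by
  intro L _ _ K _ hK hs hc
  have hC : ∀ g : L, ∀ k ∈ K, k ≠ 1 → g * k = k * g → g ∈ K := fun g k hk hk1 h =>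
    hc k hk hk1 (mem_centralizer_singleton_iff.2 h)
  refine ⟨fun χ hχ hker g hg => ?_, fun g hg => ?_, ?_⟩
  · obtain ⟨θ, -, -, rfl⟩ := frob_exists_eq_indFun hC hχ hker
    exact indFun_eq_zero_of_not_mem θ hg
  · have h1 := ChA.sum_all g
    rw [← Finset.sum_filter_add_sum_filter_not Finset.univ (fun χ : IrrCharacter L =>
      ∃ k ∈ K, (χ : L → ℂ) k ≠ (χ : L → ℂ) 1)] at h1
    have h2 := sum_irr_comp (QuotientGroup.mk' K) (QuotientGroup.mk'_surjective K)
      (fun χ : L → ℂ => χ 1 * χ g)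
    have hg' : QuotientGroup.mk' K g = 1 := (QuotientGroup.eq_one_iff g).2 hg
    simp only [map_one, hg'] at h2
    rw [ChA.sum_all, if_pos rfl] at h2
    have h3 : Finset.univ.filter (fun χ : IrrCharacter L =>
        ¬ ∃ k ∈ K, (χ : L → ℂ) k ≠ (χ : L → ℂ) 1) = Finset.univ.filter (fun χ : IrrCharacter L =>
        (QuotientGroup.mk' K).ker ≤ charKer (χ : L → ℂ)) := by
      refine Finset.filter_congr fun χ _ => ?_
      rw [QuotientGroup.ker_mk']
      constructor
      · intro h k hk
        rw [χ.2.mem_charKer]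
        by_contra h'
        exact h ⟨k, hk, h'⟩
      · rintro h ⟨k, hk, h'⟩
        exact h' (χ.2.mem_charKer.1 (h hk))
    rw [h3, ← h2] at h1
    rw [← h1, index]
    ring
  · haveI : Nontrivial K := (nontrivial_iff_ne_bot K).2 hK
    obtain ⟨lam, k, hk⟩ := ChA.exists_lin K hs
    have h1 : (fun g : K => (lam g : ℂ)) ≠ fun _ => 1 := fun h =>
      hk (Units.ext (congrFun h k))
    have h2 := isIrrCharacter_linear lam
    refine ⟨indFun K _, frob_isIrrCharacter_indFun hC h2 h1, exists_indFun_ne_one h2 h1, K.index, ?_,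
      le_rfl⟩
    rw [indFun_one]
    simp

end CL.Rk5
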