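/-
RK5-ChB: the rank of a coset action of degree `|B|` via Feit-Sibley coherence.
-/
import Cfsg.Agent.Rk5.Defs
import Cfsg.Agent.Char.SibleyGen
import Cfsg.Agent.Char.Constituent
import Cfsg.Agent.Odd.PF5Irr
import Cfsg.Agent.Odd.PF5Lin
import Cfsg.Agent.Perm.PermChar2

set_option autoImplicit false

universe u

namespace CL.Rk5

open Subgroup Cfsg CL.Grp CL.Fgs CL.Cit CL.Rk4
open scoped MatrixGroups Classical

namespace ChB

open CL.Char CL.Odd

variable {G : Type*} [Group G] [Fintype G] {N : Subgroup G} [Fintype N] {K : Subgroup N}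

/-- the irreducible characters of `N` whose kernel does not contain `K` -/
def SS (K : Subgroup N) : Set (N → ℂ) := {χ | IsIrrCharacter N χ ∧ ∃ k ∈ K, χ k ≠ χ 1}

theorem key {ν : (N → ℂ) →ₗ[ℂ] (G → ℂ)} (hν : CohWith (SS K) {1}ᶜ (indFun N) ν)
    {φ φ' : N → ℂ} (hφ : φ ∈ SS K) (hφ' : φ' ∈ SS K) {a b : ℕ} (ha : φ 1 = a) (hb : φ' 1 = b)
    {f : G → ℂ} (hf : IsClassFunction G f) :
    (b : ℂ) * classInner (ν φ) f - a * classInner (ν φ') f =
      classInner ((b : ℂ) • φ - (a : ℂ) • φ') (fun h : N => f h) := by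
  have hm := deg_comb_mem (mem_zspan_of_mem hφ) (mem_zspan_of_mem hφ') (a := a) (b := b)
    (by simpa using ha) (by simpa using hb)
  have := hν.agree _ hm
  simp only [Int.cast_natCast] at this
  rw [← frobenius_reciprocity _ hf, ← this, map_sub, map_smul, map_smul, classInner_sub_left,
    classInner_smul_left, classInner_smul_left]

omit [Fintype G] in
theorem inner_const {φ : N → ℂ} (hφ : φ ∈ SS K) (c : ℂ) : classInner φ (fun _ => c) = 0 := by
  have h1 : classInner φ (fun _ => 1) = 0 := by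
    refine hφ.1.classInner_of_ne isIrrCharacter_one ?_
    rintro rfl
    obtain ⟨k, -, hk⟩ := hφ.2
    exact hk rfl
  have h2 : (fun _ : N => c) = c • (fun _ : N => (1 : ℂ)) := by funext x; simp
  rw [h2, classInner_smul_right, h1, mul_zero]

theorem key2 {ν : (N → ℂ) →ₗ[ℂ] (G → ℂ)} (hν : CohWith (SS K) {1}ᶜ (indFun N) ν)
    (hvan : ∀ χ ∈ SS K, ∀ g, g ∉ K → χ g = 0)
    {φ φ' : N → ℂ} (hφ : φ ∈ SS K) (hφ' : φ' ∈ SS K) {a b : ℕ} (ha : φ 1 = a) (hb : φ' 1 = b)
    {f : G → ℂ} (hf : IsClassFunction G f) {c : ℂ} (hc : ∀ k ∈ K, k ≠ 1 → f k = c) :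
    (b : ℂ) * classInner (ν φ) f = a * classInner (ν φ') f := by
  rw [← sub_eq_zero, key hν hφ hφ' ha hb hf]
  have h1 : classInner ((b : ℂ) • φ - (a : ℂ) • φ') (fun h : N => f h) =
      classInner ((b : ℂ) • φ - (a : ℂ) • φ') (fun _ : N => c) := by
    rw [classInner_def, classInner_def]
    congr 1
    refine Finset.sum_congr rfl fun x _ => ?_
    by_cases h1 : x = 1
    · subst h1
      have : ((b : ℂ) • φ - (a : ℂ) • φ') 1 = 0 := by simp [ha, hb, mul_comm]
      rw [this, zero_mul, zero_mul]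
    · by_cases hx : x ∈ K
      · rw [hc x hx h1]
      · have : ((b : ℂ) • φ - (a : ℂ) • φ') x = 0 := by simp [hvan φ hφ x hx, hvan φ' hφ' x hx]
        rw [this, zero_mul, zero_mul]
  rw [h1, classInner_sub_left, classInner_smul_left, classInner_smul_left, inner_const hφ,
    inner_const hφ', mul_zero, mul_zero, sub_zero]

omit [Fintype N] in
/-- a constituent of `π` is not constant on `K` -/
theorem not_const [Finite N] {π ψ : G → ℂ} (hπ : IsCharacter G π) {n : ℕ} (hπ1 : π 1 = n)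
    (hπK : ∀ k ∈ K, k ≠ 1 → π k = -1) (hK : Nat.card K = n + 1) (hψ : IsIrrCharacter G ψ)
    (h : classInner π ψ ≠ 0) : ¬ ∀ k ∈ K, ψ k = ψ 1 := by
  intro hc
  letI : Fintype K := Fintype.ofFinite K
  obtain ⟨β, hβ, he⟩ := exists_char_eq_add_of_classInner_ne_zero hπ hψ h
  obtain ⟨b, hb⟩ := ((hβ.restrict N).restrict K).exists_nat_classInner
    (isIrrCharacter_one (G := K)).isCharacter
  obtain ⟨a, ha⟩ := hψ.isCharacter.exists_nat_one
  have ha0 : a ≠ 0 := by
    rintro rfl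
    exact hψ.one_ne_zero (by simpa using ha)
  have h1 : classInner (fun k : K => ψ (k : N)) (fun _ => 1) = a := by
    have h2 : (fun k : K => ψ (k : N)) = (a : ℂ) • (fun _ : K => (1 : ℂ)) := by
      funext k; simp [hc k k.2, ha]
    rw [h2, classInner_smul_left, isIrrCharacter_one.classInner_self, mul_one]
  have h3 : classInner (fun k : K => π (k : N)) (fun _ => 1) = 0 := by
    rw [classInner_def]
    have h4 : ∀ k : K, π (k : N) * (starRingEnd ℂ) 1 = (if k = 1 then (n + 1 : ℂ) else 0) - 1 := by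
      intro k
      by_cases hk : k = 1
      · subst hk; simp [hπ1]
      · rw [hπK k k.2 fun e => hk (Subtype.ext e)]; simp [hk]
    rw [Finset.sum_congr rfl fun k _ => h4 k, Finset.sum_sub_distrib, Finset.sum_ite_eq',
      Finset.sum_const, Finset.card_univ, ← Nat.card_eq_fintype_card, hK]
    simp
  have h5 : (fun k : K => π (k : N)) = (fun k : K => ψ (k : N)) + fun k : K => β (k : N) := by
    funext k; rw [he]; rfl
  rw [h5, classInner_add_left, h1, hb] at h3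
  have : a + b = 0 := by exact_mod_cast h3
  omega

/-- the case of a constituent orthogonal to the exceptional characters -/
theorem caseA {ν : (N → ℂ) →ₗ[ℂ] (G → ℂ)} (hν : CohWith (SS K) {1}ᶜ (indFun N) ν)
    {e n d : ℕ} {T : Finset (IrrCharacter N)} (hT : ∀ χ : IrrCharacter N, χ ∈ T ↔ (χ : N → ℂ) ∈ SS K)
    (hsum : ∑ χ ∈ T, (χ : N → ℂ) 1 * (χ : N → ℂ) 1 = (e * n : ℕ))
    {φ₀ : N → ℂ} (h0 : φ₀ ∈ SS K) (hd : φ₀ 1 = d) (hde : d ≤ e)
    {ψ : G → ℂ} (hψ : IsIrrCharacter G ψ) (hnc : ¬ ∀ k ∈ K, ψ k = ψ 1)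
    (ho : ∀ φ ∈ SS K, classInner (ν φ) ψ = 0) {a : ℕ} (ha : ψ 1 = a) : n ≤ a := by
  have hR := hψ.isCharacter.restrict N
  obtain ⟨m, hm, hme⟩ := hR.exists_eq_sum_nat
  choose g hg using fun χ : IrrCharacter N => χ.2.isCharacter.exists_nat_one
  have hd0 : d ≠ 0 := by
    rintro rfl
    exact h0.1.one_ne_zero (by simpa using hd)
  set m₀ := m ⟨φ₀, h0.1⟩ with hm₀
  have hrel : ∀ χ ∈ T, d * m χ = g χ * m₀ := by
    intro χ hχ
    have h1 := key hν ((hT χ).1 hχ) h0 (hg χ) hd hψ.isClassFunction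
    rw [ho _ ((hT χ).1 hχ), ho _ h0, classInner_sub_left, classInner_smul_left, classInner_smul_left,
      χ.2.isCharacter.classInner_comm hR, h0.1.isCharacter.classInner_comm hR, hm χ,
      hm ⟨φ₀, h0.1⟩] at h1
    have h2 : (d : ℂ) * m χ = g χ * m₀ := by linear_combination -h1
    exact_mod_cast h2
  have hval : ∀ x : N, ψ x = ∑ χ : IrrCharacter N, (m χ : ℂ) * (χ : N → ℂ) x := fun x => by
    have := congrFun hme x
    simpa only [Finset.sum_apply, Pi.smul_apply, smul_eq_mul] using this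
  have hm0 : m₀ ≠ 0 := by
    intro h
    refine hnc fun k hk => ?_
    have h1 := hval 1
    rw [OneMemClass.coe_one] at h1
    rw [hval k, h1]
    refine Finset.sum_congr rfl fun χ _ => ?_
    by_cases hχ : χ ∈ T
    · have := hrel χ hχ
      rw [h, mul_zero] at this
      rw [(mul_eq_zero.1 this).resolve_left hd0]; simp
    · rw [hT] at hχ
      have : (χ : N → ℂ) k = (χ : N → ℂ) 1 := by
        by_contra hne
        exact hχ ⟨χ.2, k, hk, hne⟩
      rw [this]
  have h1 : a = ∑ χ : IrrCharacter N, m χ * g χ := by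
    have := hval 1
    rw [OneMemClass.coe_one, ha, Finset.sum_congr rfl fun χ _ => by rw [hg χ]] at this
    exact_mod_cast this
  have h2 : ∑ χ ∈ T, g χ * g χ = e * n := by
    rw [Finset.sum_congr rfl fun χ _ => by rw [hg χ]] at hsum
    exact_mod_cast hsum
  have h3 : ∑ χ ∈ T, m χ * g χ ≤ a := h1 ▸ Finset.sum_le_sum_of_subset (Finset.subset_univ T)
  have h4 : d * ∑ χ ∈ T, m χ * g χ = m₀ * (e * n) := by
    rw [← h2, Finset.mul_sum, Finset.mul_sum]
    exact Finset.sum_congr rfl fun χ hχ => by rw [← mul_assoc, hrel χ hχ]; ring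
  have h5 : d * n ≤ d * a := by
    calc d * n ≤ e * n := Nat.mul_le_mul_right _ hde
      _ ≤ m₀ * (e * n) := Nat.le_mul_of_pos_left _ (Nat.pos_of_ne_zero hm0)
      _ = d * ∑ χ ∈ T, m χ * g χ := h4.symm
      _ ≤ d * a := Nat.mul_le_mul_left _ h3
  exact Nat.le_of_mul_le_mul_left h5 (Nat.pos_of_ne_zero hd0)

/-- the case of an exceptional constituent -/
theorem caseB {ν : (N → ℂ) →ₗ[ℂ] (G → ℂ)} (hν : CohWith (SS K) {1}ᶜ (indFun N) ν)
    (hvan : ∀ χ ∈ SS K, ∀ g, g ∉ K → χ g = 0)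
    {e n d : ℕ} {T : Finset (IrrCharacter N)} (hT : ∀ χ : IrrCharacter N, χ ∈ T ↔ (χ : N → ℂ) ∈ SS K)
    (hsum : ∑ χ ∈ T, (χ : N → ℂ) 1 * (χ : N → ℂ) 1 = (e * n : ℕ))
    {φ₀ : N → ℂ} (h0 : φ₀ ∈ SS K) (hd : φ₀ 1 = d) (hde : d ≤ e)
    {π : G → ℂ} (hπ : IsCharacter G π) (hπK : ∀ k ∈ K, k ≠ 1 → π k = -1)
    {φ : N → ℂ} (hφ : φ ∈ SS K) (hne : classInner (ν φ) π ≠ 0) {r : ℕ} (hr : classInner π π = r) :
    n ≤ e * r := by
  choose g hg using fun χ : IrrCharacter N => χ.2.isCharacter.exists_nat_one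
  have hd0 : d ≠ 0 := by
    rintro rfl
    exact h0.1.one_ne_zero (by simpa using hd)
  obtain ⟨z, hz⟩ := vchar_inner_int (hν.vchar_mem h0) hπ.isGeneralizedCharacter
  have hrel : ∀ χ : IrrCharacter N, (χ : N → ℂ) ∈ SS K →
      (d : ℂ) * classInner (ν χ) π = g χ * z := fun χ hχ => by
    rw [key2 hν hvan hχ h0 (hg χ) hd hπ.isClassFunction hπK, hz]
  have hz0 : z ≠ 0 := by
    rintro rfl
    have := hrel ⟨φ, hφ.1⟩ hφ
    rw [Int.cast_zero, mul_zero] at this
    exact hne ((mul_eq_zero.1 this).resolve_left (by exact_mod_cast hd0))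
  have hs : ∀ χ ∈ T, SIrr G (ν χ) := fun χ hχ => hν.sirr ((hT χ).1 hχ) χ.2
  have hb := bessel_of_orth T (fun χ : IrrCharacter N => ν χ)
    (fun χ hχ χ' hχ' hne => by
      rw [hν.iso_mem ((hT χ).1 hχ) ((hT χ').1 hχ')]
      exact χ.2.classInner_of_ne χ'.2 fun e => hne (Subtype.ext e))
    (fun χ hχ h => (hs χ hχ).one_ne_zero (by rw [h]; rfl)) π
  rw [nrm_eq_of_inner (r := r) (by simpa using hr)] at hb
  have h2 : ∑ χ ∈ T, (g χ : ℝ) * g χ = e * n := by
    rw [Finset.sum_congr rfl fun χ _ => by rw [hg χ]] at hsum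
    exact_mod_cast hsum
  have h3 : (d : ℝ) ^ 2 * ∑ χ ∈ T, ‖classInner π (ν χ)‖ ^ 2 / nrm (ν χ) = (z : ℝ) ^ 2 * (e * n) := by
    rw [← h2, Finset.mul_sum, Finset.mul_sum]
    refine Finset.sum_congr rfl fun χ hχ => ?_
    have h4 := congrArg (fun w : ℂ => ‖w‖ ^ 2) (hrel χ ((hT χ).1 hχ))
    simp only [norm_mul, Complex.norm_natCast, Complex.norm_intCast, mul_pow, sq_abs] at h4
    rw [(hs χ hχ).nrm_eq, div_one, ← conj_classInner, Complex.norm_conj, h4]
    ring
  have h5 : (1 : ℝ) ≤ (z : ℝ) ^ 2 := by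
    have : (1 : ℤ) ≤ z ^ 2 := by nlinarith [Int.one_le_abs hz0, sq_abs z]
    exact_mod_cast this
  have hde' : (d : ℝ) ≤ e := by exact_mod_cast hde
  have hd1 : (1 : ℝ) ≤ d := by exact_mod_cast Nat.pos_of_ne_zero hd0
  have hn0 : (0 : ℝ) ≤ n := Nat.cast_nonneg n
  have hr0 : (0 : ℝ) ≤ r := Nat.cast_nonneg r
  have h6 : (e : ℝ) * n ≤ e * (e * r) := by
    calc (e : ℝ) * n ≤ (z : ℝ) ^ 2 * (e * n) := le_mul_of_one_le_left (by positivity) h5
      _ ≤ (d : ℝ) ^ 2 * r := h3 ▸ mul_le_mul_of_nonneg_left hb (by positivity)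
      _ ≤ (e : ℝ) ^ 2 * r := by gcongr
      _ = e * (e * r) := by ring
  have h7 : (n : ℝ) ≤ e * r := le_of_mul_le_mul_left h6 (by linarith)
  exact_mod_cast h7

theorem core {ν : (N → ℂ) →ₗ[ℂ] (G → ℂ)} (hν : CohWith (SS K) {1}ᶜ (indFun N) ν)
    (hvan : ∀ χ ∈ SS K, ∀ g, g ∉ K → χ g = 0)
    {e n d : ℕ} {T : Finset (IrrCharacter N)} (hT : ∀ χ : IrrCharacter N, χ ∈ T ↔ (χ : N → ℂ) ∈ SS K)
    (hsum : ∑ χ ∈ T, (χ : N → ℂ) 1 * (χ : N → ℂ) 1 = (e * n : ℕ))
    {φ₀ : N → ℂ} (h0 : φ₀ ∈ SS K) (hd : φ₀ 1 = d) (hde : d ≤ e)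
    {π : G → ℂ} (hπ : IsCharacter G π) (hπ1 : π 1 = n) (hn : n ≠ 0)
    (hπK : ∀ k ∈ K, k ≠ 1 → π k = -1) (hK : Nat.card K = n + 1) {r : ℕ} (hr : classInner π π = r) :
    r = 1 ∨ n ≤ e * r := by
  have hπ0 : π ≠ 0 := by
    rintro rfl
    exact hn (by simpa using hπ1.symm)
  obtain ⟨ψ, hψ, hc⟩ := exists_irr_constituent hπ hπ0
  by_cases ho : ∀ φ ∈ SS K, classInner (ν φ) ψ = 0
  · left
    obtain ⟨a, ha⟩ := hψ.isCharacter.exists_nat_one
    have h1 := caseA hν hT hsum h0 hd hde hψ (not_const hπ hπ1 hπK hK hψ hc) ho ha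
    have h2 := degree_le_of_classInner_ne_zero hπ hψ hc hπ1 ha
    have h3 : π = ψ := eq_of_classInner_ne_zero_of_one_eq hπ hψ hc (by rw [hπ1, ha, le_antisymm h1 h2])
    rw [h3, hψ.classInner_self] at hr
    exact_mod_cast hr.symm
  · right
    push Not at ho
    obtain ⟨φ, hφ, hne⟩ := ho
    refine caseB hν hvan hT hsum h0 hd hde hπ hπK hφ ?_ hr
    have hc' : classInner ψ π ≠ 0 := by rwa [hψ.isCharacter.classInner_comm hπ]
    rcases (hν.sirr hφ hφ.1).eq_or_eq_neg (SIrr.of_irr hψ) hne with h | h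
    · rwa [h]
    · rwa [h, classInner_neg_left, neg_ne_zero]

end ChB

open CL.Char CL.Odd CL.Perm in
theorem jChB : JChB.{u} := by
  intro hA G _ _ n₁ n₂ B K A h hAi
  letI : Fintype G := Fintype.ofFinite G
  letI : Fintype (normalizer (B : Set G)) := Fintype.ofFinite _
  letI : Fintype (G ⧸ A) := Fintype.ofFinite _
  have eq := subgroupOfEquivOfLe (B.le_normalizer)
  have ec : Nat.card (B.subgroupOf (normalizer (B : Set G))) = n₁ :=
    (Nat.card_congr eq.toEquiv).trans h.cardB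
  obtain ⟨p, hp, -, hpd⟩ := h.two₁ 0
  obtain ⟨q, hq, hqp, hqd⟩ := h.two₁ p
  have hn0 : n₁ ≠ 0 := h.cardB ▸ Nat.card_pos.ne'
  have hn1 : 1 < n₁ := hp.one_lt.trans_le (Nat.le_of_dvd (Nat.pos_of_ne_zero hn0) hpd)
  have hB1 : B ≠ ⊥ := by
    rintro rfl
    have := h.cardB
    rw [Subgroup.card_bot] at this
    omega
  have hB1' : B.subgroupOf (normalizer (B : Set G)) ≠ ⊥ := fun e => by
    rw [e, Subgroup.card_bot] at ec; omega
  have hC' := tifn_cent h.cc
  have hnil : Group.IsNilpotent (B.subgroupOf (normalizer (B : Set G))) :=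
    haveI := h.nil; Group.nilpotent_of_mulEquiv eq.symm
  have he : Nat.card B ≠ (B.subgroupOf (normalizer (B : Set G))).index + 1 := by
    intro he
    rw [h.cardB, ← ec] at he
    have h1 := (frob_elem_of_card hC' he hp (ec ▸ hpd)).2
    haveI := Fact.mk hq
    obtain ⟨x, hx⟩ := exists_prime_orderOf_dvd_card' (G := B.subgroupOf (normalizer (B : Set G))) q
      (ec ▸ hqd)
    have h2 : x ^ p = 1 := Subtype.ext (h1 x x.2)
    exact hqp ((Nat.prime_dvd_prime_iff_eq hq hp).1 (hx ▸ orderOf_dvd_of_pow_eq_one h2))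
  rcases feit_sibley hB1 h.nil h.ti h.lt h.cc he with ⟨h2, -⟩ | hcoh
  · exfalso
    obtain ⟨s, hs, hs2, hsd⟩ := h.two₁ 2
    rw [← h.cardB, h2] at hsd
    exact hs2 ((Nat.prime_dvd_prime_iff_eq hs Nat.prime_two).1 (hs.dvd_of_dvd_pow hsd))
  obtain ⟨ν, hν⟩ := CL.Odd.IsCoherent.exists_cohWith hcoh
  obtain ⟨hvan, hsum, φ₀, h0, h0', d, hd, hde⟩ := hA _ (B.subgroupOf (normalizer (B : Set G))) hB1'
    (haveI := hnil; inferInstance) hC'
  set e := (B.subgroupOf (normalizer (B : Set G))).index with he'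
  have hcN : Nat.card (normalizer (B : Set G)) = n₁ * e := by
    rw [← ec, Subgroup.card_mul_index]
  obtain ⟨n, rfl⟩ : ∃ n, n₁ = n + 1 := ⟨n₁ - 1, by omega⟩
  have hsum1 := hsum 1 (one_mem _)
  rw [if_pos rfl, hcN] at hsum1
  -- the permutation character
  set π := (permRep ℂ G (G ⧸ A)).character with hπ
  have hπc : IsCharacter G π := isCharacter_character _
  have hπ1 : classInner π (fun _ => 1) = 1 := classInner_permChar_one
  have hππ : classInner π π = rank A := by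
    rw [hπ, classInner_permChar_self ((1 : G) : G ⧸ A), MulAction.stabilizer_quotient]; rfl
  have hcA : Nat.card A = n₂ := by
    have := A.card_mul_index
    rw [hAi, h.card, mul_comm] at this
    exact Nat.eq_of_mul_eq_mul_left (by omega) this
  have hπv : π 1 = (n + 1 : ℕ) := by
    rw [hπ, character_permRep]
    simp only [MulAction.fixedBy_one_eq_univ, Nat.card_univ]
    rw [← hAi]; rfl
  have hπB : ∀ b ∈ B, b ≠ 1 → π b = 0 := by
    intro b hb hb1
    rw [hπ, character_permRep]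
    have : IsEmpty (MulAction.fixedBy (G ⧸ A) b) := ⟨fun ⟨x, hx⟩ => by
      obtain ⟨g, rfl⟩ := QuotientGroup.mk_surjective x
      rw [MulAction.mem_fixedBy, MulAction.Quotient.smul_mk, eq_comm, QuotientGroup.eq] at hx
      have h1 : orderOf b ∣ n + 1 := h.cardB ▸ B.orderOf_dvd_natCard hb
      have h2 : orderOf b ∣ n₂ := by
        have h3 := A.orderOf_dvd_natCard hx
        have h4 : g⁻¹ * b • g = (MulAut.conj g⁻¹) b := by simp [mul_assoc]
        rwa [h4, MulEquiv.orderOf_eq, hcA] at h3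
      exact hb1 (orderOf_eq_one_iff.1 (Nat.eq_one_of_dvd_coprimes h.cop h1 h2))⟩
    simp
  have hc1 : IsCharacter G (π - ((1 : ℕ) : ℂ) • fun _ => 1) :=
    isCharacter_sub_smul_irr hπc isIrrCharacter_one (m := 1) (by simpa using hπ1) le_rfl
  obtain ⟨r, hr⟩ := hc1.exists_nat_classInner hc1
  have hrk : rank A = r + 1 := by
    have h1 := hr
    rw [classInner_sub_left, classInner_sub_right, classInner_sub_right, classInner_smul_left,
      classInner_smul_left, classInner_smul_right, classInner_smul_right,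
      isIrrCharacter_one.classInner_self, isIrrCharacter_one.isCharacter.classInner_comm hπc, hπ1,
      hππ] at h1
    have h2 : (rank A : ℂ) = r + 1 := by
      simp only [Nat.cast_one, map_one, mul_one] at h1
      linear_combination h1
    exact_mod_cast h2
  have hcore := ChB.core (K := B.subgroupOf (normalizer (B : Set G))) hν
    (fun χ hχ => hvan χ hχ.1 hχ.2) (e := e) (n := n) (d := d)
    (fun χ => by rw [Finset.mem_filter]; exact ⟨fun h => ⟨χ.2, h.2⟩, fun h => ⟨Finset.mem_univ _, h.2⟩⟩)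
    (hsum1.trans (by push_cast; ring)) ⟨h0, h0'⟩ hd hde hc1 (by simp [hπv]) (by omega)
    (fun k hk hk1 => by
      simp [hπB k hk fun e => hk1 (Subtype.ext e)]) ec hr
  rcases hcore with h1 | h1
  · left; omega
  · right
    change e + (n + 1 - 1) ≤ e * rank A
    rw [hrk, mul_add]; omega

end CL.Rk5
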