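/-
Simple groups of conjugate type rank five (S3194): the dichotomy `JDi`.
-/
import Cfsg.Agent.Rk5.Defs

set_option autoImplicit false

universe u

namespace CL.Rk5

open Subgroup Cfsg CL.Grp CL.Fgs CL.Cit CL.Rk4
open scoped MatrixGroups Classical

namespace Dix

theorem pow {G : Type u} [Group G] [Finite G] {n₁ n₂ c : ℕ} (h : AL G n₁ n₂ c)
    (hn : ∀ y z : G, (orderOf y).Prime → (orderOf z).Prime → orderOf y ≠ orderOf z → cs(y) = n₂ → ¬ cent(y) ≤ cent(z))
    {y : G} (hp : (orderOf y).Prime) (hy : cs(y) = n₂) : ∃ k, c = orderOf y ^ (k + 1) * n₂ := by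
  have key : ∀ w ∈ cent(y), (orderOf w).Prime → orderOf w ≠ orderOf y →
      (cent(w)).relIndex cent(y) ≠ 1 ∧ c = (cent(w)).relIndex cent(y) * n₂ := fun w hw h1 h2 => by
    have hc : Commute y w := (mem_cent.1 hw).symm
    have ho := (Nat.coprime_primes hp h1).2 h2.symm
    have h3 : (cent(w)).relIndex cent(y) ≠ 1 := fun e => hn y w hp h1 h2.symm hy (relIndex_eq_one.1 e)
    have h4 := cs_mul_of_coprime' hc ho
    rw [hy] at h4
    refine ⟨h3, ((h.one _ (mul_ne_one_of_coprime (h.ne_one₂ hy) hc ho) (h4 ▸ dvd_mul_left _ _)).resolve_left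
      fun e => h3 ?_).symm.trans h4⟩
    have := h.lt₂
    exact Nat.eq_of_mul_eq_mul_right (by omega : 0 < n₂) (by rw [← h4, e, one_mul])
  obtain ⟨q, hq, hq1, hq2⟩ := h.two₁ (orderOf y)
  have := Fact.mk hq
  obtain ⟨w, hw⟩ := exists_prime_orderOf_dvd_card' (G := cent(y)) q (by rwa [h.card₂ hy])
  rw [← Subgroup.orderOf_coe] at hw
  obtain ⟨h1, h2⟩ := key w w.2 (hw ▸ hq) (hw ▸ hq1)
  have h3 := Nat.eq_prime_pow_of_unique_prime_dvd (n := (cent((w : G))).relIndex cent(y)) (p := orderOf y)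
    index_ne_zero_of_finite fun {r} hr hd => by
      by_contra hne
      have := Fact.mk hr
      obtain ⟨Q, hQ⟩ := exists_isSylowIn r cent(y)
      obtain ⟨z, hz, ho, hle⟩ := ito_exists_central hQ.isPGroup fun e => hQ.not_dvd (by
        rw [e, relIndex_bot_left]; exact hd.trans (relIndex_dvd_card _ _))
      have h4 := (key z (hQ.le hz) (ho ▸ hr) (ho ▸ hne)).2
      have := h.lt₂
      rw [Nat.eq_of_mul_eq_mul_right (by omega : 0 < n₂) (h2.symm.trans h4), ← inf_relIndex_right] at hd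
      exact hQ.not_dvd_relIndex_of_le (le_inf hle hQ.le) inf_le_right hd
  generalize ((cent((w : G))).relIndex cent(y)).primeFactorsList.length = k at h3
  rcases k with _ | k
  · exact absurd h3 h1
  · exact ⟨k, by rw [h2, h3]⟩

end Dix

theorem jDi : JDi.{u} := by
  intro G _ _ n₁ n₂ c h
  refine or_iff_not_imp_left.2 fun hn => ?_
  have hn' : ∀ y z : G, (orderOf y).Prime → (orderOf z).Prime → orderOf y ≠ orderOf z → cs(y) = n₂ →
      ¬ cent(y) ≤ cent(z) := fun y z a b c d e => hn ⟨y, z, a, b, c, d, e⟩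
  obtain ⟨y₀, hp, hy⟩ := h.exp₂
  obtain ⟨k, hk⟩ := Dix.pow h hn' hp hy
  refine ⟨_, h, hp, h.ord₂ y₀ _ hy hp dvd_rfl, fun y hy' p hp' hd => ?_⟩
  obtain ⟨y', ho, hc, -⟩ := H2x.pw h.toH2.symm hy' hp' hd
  obtain ⟨j, hj⟩ := Dix.pow h hn' (ho ▸ hp') hc
  have := h.lt₂
  have e := Nat.eq_of_mul_eq_mul_right (by omega : 0 < n₂) (hj.symm.trans hk)
  rw [ho] at e
  exact (Nat.prime_dvd_prime_iff_eq hp' hp).1 (hp'.dvd_of_dvd_pow (e ▸ dvd_pow_self p j.succ_ne_zero))

end CL.Rk5
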