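/-
Simple groups of conjugate type rank five: six centralizer orders from `Odd3` and `Ev`; the case `A₇`.
-/
import Cfsg.Agent.Rk5.Defs
import Cfsg.Agent.Rk4.A7

set_option autoImplicit false

universe u

namespace CL.Rk5

open Subgroup Cfsg CL.Grp CL.Fgs CL.Cit CL.Rk4
open scoped MatrixGroups Classical

theorem jEv : JEv.{u} := by
  intro G _ _ h ⟨⟨t, s, ht, h2, hs, s2, hst⟩, v, v1, hv⟩
  obtain ⟨x, y, z, hx, hy, hz, ox, oy, oz, n1, n2, n3⟩ := h
  have := Fact.mk hs
  have := Fact.mk Nat.prime_two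
  obtain ⟨⟨z0, hz0⟩, ho⟩ := exists_prime_orderOf_dvd_card' s hst
  rw [Subgroup.orderOf_mk] at ho
  have t1 : t ≠ 1 := by rintro rfl; simp at ht
  have hc : Commute t z0 := mem_cent'.1 hz0
  have cop : (orderOf t).Coprime (orderOf z0) := by
    rw [ht, ho]; exact (Nat.coprime_primes Nat.prime_two hs).2 s2.symm
  have w1 := mul_ne_one_of_coprime t1 hc cop
  have hw := cent_mul_of_coprime hc cop
  have ow : orderOf (t * z0) = 2 * s := by rw [hc.orderOf_mul_eq_mul_orderOf_of_coprime cop, ht, ho]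
  have dw := orderOf_dvd_card_cent (t * z0)
  rw [ow] at dw
  have et : 2 ∣ Nat.card cent(t) := ht ▸ orderOf_dvd_card_cent t
  have ew : 2 ∣ Nat.card cent(t * z0) := (dvd_mul_right 2 s).trans dw
  have sw : s ∣ Nat.card cent(t * z0) := (dvd_mul_left s 2).trans dw
  have sv : ¬ s ∣ Nat.card cent(v) := fun e => s2 (hv s hs e)
  have pv : IsPiElt {2} v := fun q hq hd => hv q hq (hd.trans (orderOf_dvd_card_cent v))
  have ev : 2 ∣ Nat.card cent(v) := by
    obtain ⟨p, hp, hd⟩ := Nat.exists_prime_and_dvd (mt orderOf_eq_one_iff.1 v1)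
    obtain rfl : p = 2 := pv p hp hd
    exact hd.trans (orderOf_dvd_card_cent v)
  have n4 : Nat.card cent(t) ≠ Nat.card cent(t * z0) := fun e => by
    have e' : cent(t * z0) = cent(t) := Subgroup.eq_of_le_of_card_ge (hw ▸ inf_le_left) e.le
    obtain ⟨P, hP⟩ := not_dvd_cs_iff.1 h2
    obtain ⟨g, hg⟩ := pv.exists_conj_mem_sylow P
    have h3 : g * v * g⁻¹ ∈ cent(z0) := (hw ▸ e' ▸ hP hg : g * v * g⁻¹ ∈ cent(t) ⊓ cent(z0)).2
    rw [mem_cent_comm] at h3
    have := Subgroup.orderOf_dvd_natCard _ h3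
    rw [ho, card_cent_conj] at this
    exact sv this
  have n5 : Nat.card cent(t) ≠ Nat.card cent(v) := fun e => sv (e ▸ hst)
  have n6 : Nat.card cent(t * z0) ≠ Nat.card cent(v) := fun e => sv (e ▸ sw)
  refine rank6_of hx hy hz t1 w1 v1 ?_
  rw [Nat.odd_iff] at ox oy oz
  simp only [List.nodup_cons, List.mem_cons, List.not_mem_nil, or_false, not_or, List.nodup_nil,
    not_false_eq_true, and_true]
  omega

namespace A6

open Equiv

/-- the 3-cycle `(4 5 6)` -/
def y3 : Perm (Fin 7) := ⟨![0, 1, 2, 3, 5, 6, 4], ![0, 1, 2, 3, 6, 4, 5], by decide, by decide⟩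

end A6

open A7 A6 in
theorem jA6 : JA6 := by
  have := Fact.mk Nat.prime_two
  have := Fact.mk Nat.prime_three
  let u : alternatingGroup (Fin 7) := ⟨x4, Equiv.Perm.mem_alternatingGroup.2 (by decide +kernel)⟩
  let a : alternatingGroup (Fin 7) := ⟨x2, Equiv.Perm.mem_alternatingGroup.2 (by decide +kernel)⟩
  let z : alternatingGroup (Fin 7) := ⟨y3, Equiv.Perm.mem_alternatingGroup.2 (by decide +kernel)⟩
  refine ⟨⟨u ^ 2, 3, orderOf_eq_prime (by decide +kernel) (by decide +kernel), fun h => ?_,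
    Nat.prime_three, by decide, ?_⟩, u, by decide +kernel, fun p hp hd => ?_⟩
  · have p : ∀ (g : alternatingGroup (Fin 7)) (k : ℕ), g ^ 2 ^ k = 1 → IsPGroup 2 (zpowers g) :=
      fun g k hk => by
        obtain ⟨n, -, hn⟩ := (Nat.dvd_prime_pow Nat.prime_two).1 (orderOf_dvd_of_pow_eq_one hk)
        exact IsPGroup.of_card (by rw [Nat.card_zpowers, hn])
    have hn : zpowers a ≤ normalizer (zpowers u : Set (alternatingGroup (Fin 7))) :=
      zpowers_le.2 (mem_normalizer_fintype (by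
        rintro _ ⟨k, rfl⟩
        have e : a * u * a⁻¹ = u⁻¹ := by decide +kernel
        change a * u ^ k * a⁻¹ ∈ zpowers u
        rw [← conj_zpow, e]
        exact zpow_mem (inv_mem (mem_zpowers u)) k))
    obtain ⟨k, hk⟩ := ((p a 1 (by decide +kernel)).to_sup_of_normal_right'
      (p u 2 (by decide +kernel)) hn).exists_card_eq
    have ou : orderOf u = 2 ^ (1 + 1) :=
      orderOf_eq_prime_pow (by decide +kernel) (by decide +kernel)
    have hle : zpowers a ⊔ zpowers u ≤ cent(u ^ 2) :=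
      sup_le (zpowers_le.2 (mem_cent_iff_conj.2 (by decide +kernel)))
        (zpowers_le.2 (mem_cent_iff_conj.2 (by decide +kernel)))
    have hlt : ¬ Nat.card ↥(zpowers a ⊔ zpowers u) ≤ Nat.card (zpowers u) := fun e => by
      have e' := Subgroup.eq_of_le_of_card_ge (le_sup_right : zpowers u ≤ zpowers a ⊔ zpowers u) e
      have h3 : a ∈ cent(u) := zpowers_le_cent u (e' ▸ mem_sup_left (mem_zpowers a))
      exact absurd (mem_cent_iff_conj.1 h3) (by decide +kernel)
    rw [hk, Nat.card_zpowers, ou, Nat.pow_le_pow_iff_right one_lt_two] at hlt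
    have h8 : 2 ^ 3 ∣ Nat.card cent(u ^ 2) :=
      (pow_dvd_pow 2 (by omega)).trans (hk ▸ card_dvd_of_le hle)
    have h16 := Nat.mul_dvd_mul h8 h
    rw [card_cent_mul_cs, nat_card_alternatingGroup, Nat.card_eq_fintype_card, Fintype.card_fin] at h16
    exact absurd h16 (by decide)
  · have oz : orderOf z = 3 := orderOf_eq_prime (by decide +kernel) (by decide +kernel)
    exact oz ▸ Subgroup.orderOf_dvd_natCard _ (mem_cent_iff_conj.2 (by decide +kernel))
  · have := Fact.mk hp
    obtain ⟨g, hg⟩ := exists_prime_orderOf_dvd_card' p hd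
    have h4 := orderOf_dvd_of_pow_eq_one (cen u (2 ^ 2) (by decide +kernel) rfl rfl g (mem_cent.1 g.2))
    rw [Subgroup.orderOf_coe, hg] at h4
    exact (Nat.prime_dvd_prime_iff_eq hp Nat.prime_two).1 (hp.dvd_of_dvd_pow h4)

end CL.Rk5
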