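/-
Project RK5: the groups `PSL₃(2ⁿ)`, `n ≥ 3`, and `PSU₃(2ⁿ)`, `n ≥ 2`, satisfy `Ev`.
-/
import Cfsg.Agent.Rk5.Defs
import Cfsg.Agent.S2476
import Cfsg.Agent.S1141
import Cfsg.Agent.Cls.PSL34
import Cfsg.Agent.Known.SpecLU2
import Cfsg.Agent.Chev.U3Even

set_option autoImplicit false

universe u

namespace CL.Rk5

open Subgroup Cfsg CL.Grp CL.Fgs CL.Cit CL.Rk4
open scoped MatrixGroups Classical

namespace L6a

theorem ev_of {G : Type*} [Group G] [Finite G] (hc : ∀ t : G, orderOf t = 2 → ¬ 2 ∣ cs(t))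
    {s a b c : ℕ} (hs : s.Prime) (hs2 : s ≠ 2) {w v : G} (hw : orderOf w = 2 * s) (hv : orderOf v = 4)
    (ha : ¬ 2 ∣ a) (hb : ¬ 2 ∣ b) (hc2 : ¬ 2 ∣ c)
    (sp : ∀ g : G, orderOf g ∣ a ∨ orderOf g ∣ b ∨ orderOf g ∣ 2 * c ∨ orderOf g ∣ 4) : Ev G := by
  have ht : orderOf (w ^ s) = 2 := by
    rw [orderOf_pow_of_dvd hs.ne_zero (hw ▸ dvd_mul_left s 2), hw, Nat.mul_div_cancel _ hs.pos]
  refine ⟨⟨w ^ s, s, ht, hc _ ht, hs, hs2, ?_⟩, v, fun e => ?_, fun p hp h => ?_⟩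
  · exact ((hw ▸ dvd_mul_left s 2 : s ∣ orderOf w).trans (orderOf_dvd_card_cent w)).trans
      (card_dvd_of_le (cent_le_pow w s))
  · rw [e, orderOf_one] at hv
    exact absurd hv (by decide)
  · by_contra p2
    have p4 : ¬ p ∣ 4 := fun h =>
      p2 ((Nat.prime_dvd_prime_iff_eq hp Nat.prime_two).1 (hp.dvd_of_dvd_pow (n := 2) h))
    obtain ⟨g, hg⟩ := exists_orderOf_mul hp h (hv ▸ p4)
    have h4 : 4 ∣ orderOf g := by rw [hg, hv]; exact dvd_mul_left 4 p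
    have hp' : p ∣ orderOf g := by rw [hg]; exact dvd_mul_right p _
    rcases sp g with h | h | h | h
    · have := h4.trans h; omega
    · have := h4.trans h; omega
    · have := h4.trans h; omega
    · exact p4 (hp'.trans h)

theorem isConj_PSL {F : Type} [Field F] (h2 : (2 : F) = 0) (x : PSL(3, F)) (hx : orderOf x = 2) :
    IsConj (QuotientGroup.mk (Matrix.SpecialLinearGroup.transvection
      (show (0 : Fin 3) ≠ 1 by decide) (1 : F))) x := by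
  obtain ⟨A, rfl⟩ := QuotientGroup.mk_surjective x
  have hx2 : (QuotientGroup.mk A : PSL(3, F)) ^ 2 = 1 := hx ▸ pow_orderOf_eq_one _
  have hx3 : (QuotientGroup.mk (A ^ 3) : PSL(3, F)) = QuotientGroup.mk A := by
    rw [QuotientGroup.mk_pow, pow_succ, hx2, one_mul]
  have hZ : A ^ 2 ∈ Subgroup.center SL(3, F) := by
    rwa [← QuotientGroup.mk_pow, QuotientGroup.eq_one_iff] at hx2
  obtain ⟨r, hr, hr'⟩ := Matrix.SpecialLinearGroup.mem_center_iff.1 hZ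
  have h6 : (A ^ 3) ^ 2 = 1 := by
    rw [← pow_mul, mul_comm, pow_mul]
    apply Subtype.ext
    rw [Matrix.SpecialLinearGroup.coe_pow, ← hr', ← map_pow]
    rw [Fintype.card_fin] at hr
    rw [hr, map_one]; rfl
  have h1 : A ^ 3 ≠ 1 := fun h => by
    rw [← hx3, h, QuotientGroup.mk_one, orderOf_one] at hx
    exact absurd hx (by decide)
  rw [← hx3]
  exact (QuotientGroup.mk' _).map_isConj (CL.Cls.isConj_transvection_of_sq h2 _ h6 h1)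

theorem central_of_conj {G : Type*} [Group G] [Finite G] {a : G}
    (h : ∀ x : G, orderOf x = 2 → IsConj a x) (t : G) (ht : orderOf t = 2) : ¬ 2 ∣ cs(t) := by
  have := Fact.mk Nat.prime_two
  obtain ⟨P⟩ : Nonempty (Sylow 2 G) := inferInstance
  obtain ⟨z, -, hz, hP⟩ := ito_exists_central P.isPGroup'
    (ito_sylow_ne_bot (ht ▸ orderOf_dvd_natCard t) P)
  rw [← cs_eq_of_isConj ((h z hz).symm.trans (h t ht))]
  exact not_dvd_cs_iff.2 ⟨P, hP⟩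

theorem central_of_suzuki {G : Type*} [Group G] [Finite G]
    (h : ∀ P : Sylow 2 G, IsSuzukiTwoGroup (P : Subgroup G)) (t : G) (ht : orderOf t = 2) :
    ¬ 2 ∣ cs(t) := by
  have := Fact.mk Nat.prime_two
  have hp : IsPGroup 2 (zpowers t) := IsPGroup.of_card (n := 1) (by rw [Nat.card_zpowers, ht, pow_one])
  obtain ⟨P, hP⟩ := hp.exists_le_sylow
  have htP : t ∈ (P : Subgroup G) := hP (mem_zpowers t)
  obtain ⟨z, hzP, hz, hc⟩ := ito_exists_central P.isPGroup'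
    (ito_sylow_ne_bot (ht ▸ orderOf_dvd_natCard t) P)
  obtain ⟨-, -, -, -, K, -, hK⟩ := h P
  have n1 : ∀ x : G, orderOf x = 2 → x ≠ 1 := fun x hx e => by
    rw [e, orderOf_one] at hx; exact absurd hx (by decide)
  have n2 : ∀ x : G, orderOf x = 2 → x * x = 1 := fun x hx => by
    rw [← sq, ← hx, pow_orderOf_eq_one]
  obtain ⟨k, hk, -⟩ := hK ⟨z, hzP⟩ ⟨t, htP⟩ (fun e => n1 z hz (congrArg Subtype.val e))
    (Subtype.ext (n2 z hz)) (fun e => n1 t ht (congrArg Subtype.val e)) (Subtype.ext (n2 t ht))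
  refine not_dvd_cs_iff.2 ⟨P, fun g hg => mem_cent.2 ?_⟩
  have h1 : Commute ((k : MulAut (P : Subgroup G)).symm ⟨g, hg⟩) ⟨z, hzP⟩ :=
    Subtype.ext (mem_cent.1 (hc ((k : MulAut (P : Subgroup G)).symm ⟨g, hg⟩).2)).eq
  have h2 := h1.map (k : MulAut (P : Subgroup G))
  rw [MulEquiv.apply_symm_apply, hk] at h2
  exact congrArg Subtype.val h2.eq

theorem exists_prime {d k : ℕ} (d3 : d ∣ 3) (dk : d ∣ k) (hk : 4 ≤ k) (k2 : ¬ 2 ∣ k) :
    ∃ s : ℕ, s.Prime ∧ s ≠ 2 ∧ d * (2 * s) ∣ 2 * k := by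
  obtain ⟨m, rfl⟩ := dk
  have : d ≤ 3 := Nat.le_of_dvd (by norm_num) d3
  obtain ⟨s, hs, hm⟩ := Nat.exists_prime_and_dvd (show m ≠ 1 by rintro rfl; omega)
  refine ⟨s, hs, fun e => k2 ((e ▸ hm : 2 ∣ m).mul_left d), ?_⟩
  obtain ⟨j, rfl⟩ := hm
  exact ⟨j, by ring⟩

theorem mainU {F : Type} [Field F] [Fintype F] [CharP F 2] {q : ℕ} (h4 : 4 ≤ q) (h2 : 2 ∣ q)
    (hF : Fintype.card F = q ^ 2) (hc : ∀ t : PSU 3 F q, orderOf t = 2 → ¬ 2 ∣ cs(t)) :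
    Ev (PSU 3 F q) := by
  have := Fact.mk Nat.prime_two
  have sp := (CL.Spec.lu_PSU (F := F) 2 hF (n := 3) (by omega)).mem_three_iff
  obtain ⟨s, rfl⟩ : ∃ s, q = s + 1 := ⟨q - 1, by omega⟩
  have e1 : (-((s + 1 : ℕ) : ℤ)) ^ 2 - 1 = ((s + 2) * s : ℕ) := by push_cast; ring
  have e2 : (-((s + 1 : ℕ) : ℤ)) - 1 = -(s + 2 : ℕ) := by push_cast; ring
  have e4 : (-((s + 1 : ℕ) : ℤ)) ^ 2 + -((s + 1 : ℕ) : ℤ) + 1 = (s ^ 2 + s + 1 : ℕ) := by push_cast; ring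
  have e3 : Int.gcd 3 ((s + 2 : ℕ) : ℤ) = Nat.gcd 3 (s + 2) := Int.gcd_natCast_natCast 3 _
  rw [e1, e2, e4, Int.gcd_neg, e3] at sp
  simp only [mul_neg, dvd_neg, true_and] at sp
  norm_cast at sp
  have d1 := Nat.gcd_dvd_left 3 (s + 2)
  have d2 := Nat.gcd_dvd_right 3 (s + 2)
  generalize Nat.gcd 3 (s + 2) = d at sp d1 d2
  have nec : ∀ g : PSU 3 F (s + 1), orderOf g ∣ s ^ 2 + s + 1 ∨ orderOf g ∣ (s + 2) * s ∨
      orderOf g ∣ 2 * (s + 2) ∨ orderOf g ∣ 4 := fun g => by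
    rcases (sp _).1 ⟨g, rfl⟩ with h | h | h | h | h
    exacts [.inl (dvd_of_mul_left_dvd h), .inr (.inl (dvd_of_mul_left_dvd h)), .inr (.inl (h.mul_right _)),
      .inr (.inr (.inl (dvd_of_mul_left_dvd h))), .inr (.inr (.inr h))]
  obtain ⟨k, hk⟩ : ∃ k, s = 2 * k + 1 := ⟨s / 2, by omega⟩
  have o1 : ¬ 2 ∣ s ^ 2 + s + 1 := by
    rw [show s ^ 2 + s + 1 = 2 * (2 * k ^ 2 + 3 * k + 1) + 1 by rw [hk]; ring]; omega
  have o2 : ¬ 2 ∣ (s + 2) * s := by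
    rw [show (s + 2) * s = 2 * (2 * k ^ 2 + 4 * k + 1) + 1 by rw [hk]; ring]; omega
  obtain ⟨r, hr, r2, hd⟩ := exists_prime d1 d2 (by omega) (by omega)
  obtain ⟨w, hw⟩ := (sp (2 * r)).2 (.inr (.inr (.inr (.inl hd))))
  obtain ⟨v, hv⟩ := (sp 4).2 (.inr (.inr (.inr (.inr dvd_rfl))))
  exact ev_of hc hr r2 hw hv o1 o2 (by omega) nec

end L6a

theorem jL6 : JL6 := by
  intro F _ _ n hn hF
  have : CharP F 2 := charP_of_card_eq_prime_pow hF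
  have h8 : 8 ≤ Fintype.card F := hF ▸ Nat.pow_le_pow_right two_pos hn
  have sp := Cfsg.Agent.S2476.result (F := F) 2
  have h2 : 2 ∣ Fintype.card F := hF ▸ dvd_pow_self 2 (by omega)
  obtain ⟨k, hk⟩ : ∃ k, Fintype.card F = k + 1 := ⟨Fintype.card F - 1, by omega⟩
  have e1 : (k + 1) ^ 2 + (k + 1) + 1 = k ^ 2 + 3 * k + 3 := by ring
  have e2 : (k + 1) ^ 2 - 1 = k * (k + 2) := Nat.sub_eq_of_eq_add (by ring)
  rw [hk, Nat.add_sub_cancel, e1, e2] at sp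
  have d3 := Nat.gcd_dvd_left 3 k
  have dk := Nat.gcd_dvd_right 3 k
  have dN : Nat.gcd 3 k ∣ k ^ 2 + 3 * k + 3 := dvd_add (dvd_add (dvd_pow dk two_ne_zero) (dk.mul_left 3)) d3
  have k2 : ¬ 2 ∣ k := by omega
  obtain ⟨m, hm⟩ : ∃ m, k = 2 * m + 1 := ⟨k / 2, by omega⟩
  have o1 : ¬ 2 ∣ k ^ 2 + 3 * k + 3 := by
    rw [show k ^ 2 + 3 * k + 3 = 2 * (2 * m ^ 2 + 5 * m + 3) + 1 by rw [hm]; ring]; omega
  have o2 : ¬ 2 ∣ k * (k + 2) := fun h => (Nat.prime_two.dvd_mul.1 h).elim k2 (by omega)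
  obtain ⟨r, hr, r2, hd⟩ := L6a.exists_prime d3 dk (by omega) k2
  obtain ⟨w, hw⟩ := (Set.ext_iff.1 sp (2 * r)).2
    (.inr (.inr (.inr (.inl ((Nat.dvd_div_iff_mul_dvd (dk.mul_left 2)).2 hd)))))
  obtain ⟨v, hv⟩ := (Set.ext_iff.1 sp 4).2 (.inr (.inr (.inr (.inr ⟨rfl, dvd_rfl⟩))))
  refine L6a.ev_of (L6a.central_of_conj (L6a.isConj_PSL CharTwo.two_eq_zero)) hr r2 hw hv o1 o2 k2 fun g => ?_
  rcases (Set.ext_iff.1 sp _).1 ⟨g, rfl⟩ with h | h | h | h | h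
  exacts [Or.inl (h.trans (Nat.div_dvd_of_dvd dN)), Or.inr (Or.inl (h.trans (Nat.div_dvd_of_dvd (dk.mul_right _)))),
    Or.inr (Or.inr (Or.inl (h.mul_left 2))),
    Or.inr (Or.inr (Or.inl (h.trans (Nat.div_dvd_of_dvd (dk.mul_left _))))), Or.inr (Or.inr (Or.inr h.2))]

theorem jU6 : JU6 := fun F _ _ n hn hF =>
  have := CL.Chev.U3.charP_two_of_card (F := F) (n := n * 2) (by rw [hF, pow_mul])
  L6a.mainU (Nat.pow_le_pow_right (n := 2) (by norm_num) hn) (dvd_pow_self 2 (by omega)) hF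
    (L6a.central_of_suzuki fun P => (Cfsg.Agent.S1141.result hn hF P).2.2)

end CL.Rk5
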