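/-
Simple groups of conjugate type rank five (S3194): Lemma X.
-/
import Cfsg.Agent.Rk5.Defs

set_option autoImplicit false

universe u

namespace CL.Rk5

open Subgroup Cfsg CL.Grp CL.Fgs CL.Cit CL.Rk4
open scoped MatrixGroups Classical

namespace LXa

variable {G : Type u} [Group G] [Finite G] {n₁ n₂ a b c l : ℕ} {u x y : G}

theorem core (h : H2P G n₁ n₂) (hl : l.Prime) (hu : IsPiElt {l} u) (hr : (orderOf x).Prime)
    (hs : (orderOf y).Prime) (rl : orderOf x ≠ l) (sl : orderOf y ≠ l) (hx : cs(x) = n₁)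
    (hy : cs(y) = n₂) (ux : Commute u x) (uy : Commute u y) (b' : ℕ)
    (key0 : ∀ w ∈ cent(u), IsPiElt {l}ᶜ w → cs(u * w) = cs(u) ∨ cs(u * w) = b') : False := by
  have := Fact.mk hl
  have := Fact.mk hs
  have px := (ito_piElt_of_orderOf hr rfl).1
  have py := (ito_piElt_of_orderOf hs rfl).1
  have hxD : x ∈ cent(u) := mem_cent'.2 ux
  have hyD : y ∈ cent(u) := mem_cent'.2 uy
  have nc := h.ncomm x y hx hy
  have key : ∀ w ∈ cent(u), IsPiElt {l}ᶜ w →
      (cent(w)).relIndex cent(u) * cs(u) = cs(u) ∨ (cent(w)).relIndex cent(u) * cs(u) = b' :=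
    fun w hw pw => by
      rw [← cs_mul_of_coprime' (mem_cent'.1 hw) (hu.coprime pw)]
      exact key0 w hw pw
  have h1 : ¬ cent(u) ≤ cent(x) := fun e => nc (mem_cent'.1 (e hyD))
  have ne : ∀ {w : G}, ¬ cent(u) ≤ cent(w) → (cent(w)).relIndex cent(u) * cs(u) ≠ cs(u) := fun hw e =>
    hw (relIndex_eq_one.1 (Nat.eq_of_mul_eq_mul_right (cs_pos u) (e.trans (one_mul _).symm)))
  obtain ⟨-, ⟨h2⟩ | ⟨q, -, -, h2⟩⟩ := abf_in (p := l) (k := (cent(x)).relIndex cent(u)) (D := cent(u))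
    fun w hw pw => or_iff_not_imp_left.2 fun h3 => Nat.eq_of_mul_eq_mul_right (cs_pos u) (by
      have := key w hw pw
      have := key x hxD (ito_ne rl px)
      have := ne h3
      have := ne h1
      omega)
  · obtain ⟨j, hj⟩ := h2 x hxD (ito_ne rl px)
    obtain ⟨P, hP⟩ := exists_sylow_le_of_not_dvd_index (p := orderOf y) (H := (cent(x)).subgroupOf cent(u))
      fun hd => sl ((Nat.prime_dvd_prime_iff_eq hs hl).1 (hs.dvd_of_dvd_pow (hd.trans hj.dvd)))
    obtain ⟨g, hg⟩ := (isPiElt_coe_iff.1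
      (show IsPiElt _ ((⟨y, hyD⟩ : cent(u)) : G) from py)).exists_conj_mem_sylow P
    exact h.ncomm x _ hx ((cs_conj (g : G) y).trans hy) (mem_cent'.1 (hP hg))
  · by_cases e : orderOf x = q
    · refine nc (mem_cent.1 (h2 _ y hs sl (fun e' => hr.one_lt.ne' ?_) hyD py hxD))
      exact Nat.eq_one_of_dvd_coprimes h.cop ((e'.trans e.symm) ▸ h.ord₂ y _ hy hs dvd_rfl)
        (h.ord₁ x _ hx hr dvd_rfl)
    · exact h1 (h2 _ x hr rl e hxD px)

theorem aux (h : H2P G n₁ n₂) (h5 : Five G n₁ n₂ a b c)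
    (k₁ : ¬ ∀ z : G, z ≠ 1 → cs(z) ≠ n₂ → n₁ ∣ cs(z))
    (k₂ : ¬ ∀ z : G, z ≠ 1 → cs(z) ≠ n₁ → n₂ ∣ cs(z))
    (hl : l.Prime) (hu : IsPiElt {l} u) (u1 : u ≠ 1) (hr : (orderOf x).Prime)
    (hs : (orderOf y).Prime) (rl : orderOf x ≠ l) (sl : orderOf y ≠ l) (hx : cs(x) = n₁)
    (hy : cs(y) = n₂) (ux : Commute u x) (uy : Commute u y) (ha : cs(u) = a) : False := by
  have key : ∀ w ∈ cent(u), IsPiElt {l}ᶜ w →
      a ∣ cs(u * w) ∧ (cs(u * w) = a ∨ cs(u * w) = b ∨ cs(u * w) = c) := fun w hw pw => by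
    have hc := mem_cent'.1 hw
    have ho := hu.coprime pw
    have hd := cs_dvd_cs_mul_of_coprime hc ho
    refine ⟨ha ▸ hd, ?_⟩
    rcases h5 _ (mul_ne_one_of_coprime u1 hc ho) with e | e | e
    · exact absurd uy (h.ncomm u y (h.head₁ u u1 (e ▸ hd)) hy)
    · exact absurd ux.symm (h.ncomm x u hx (h.head₂ u u1 (e ▸ hd)))
    · exact e
  by_cases hc : a ∣ c
  · by_cases hb : a ∣ b
    · rcases h.below u u1 with e | e
      · rw [ha] at e
        refine k₁ fun z hz hz' => ?_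
        rcases h5 z hz with e' | e' | e' | e' | e'
        · exact e' ▸ dvd_rfl
        · exact absurd e' hz'
        · exact e' ▸ e
        · exact e' ▸ e.trans hb
        · exact e' ▸ e.trans hc
      · rw [ha] at e
        refine k₂ fun z hz hz' => ?_
        rcases h5 z hz with e' | e' | e' | e' | e'
        · exact absurd e' hz'
        · exact e' ▸ dvd_rfl
        · exact e' ▸ e
        · exact e' ▸ e.trans hb
        · exact e' ▸ e.trans hc
    · refine core h hl hu hr hs rl sl hx hy ux uy c fun w hw pw => ?_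
      obtain ⟨hd, e | e | e⟩ := key w hw pw
      · exact Or.inl (e.trans ha.symm)
      · exact absurd (e ▸ hd) hb
      · exact Or.inr e
  · refine core h hl hu hr hs rl sl hx hy ux uy b fun w hw pw => ?_
    obtain ⟨hd, e | e | e⟩ := key w hw pw
    · exact Or.inl (e.trans ha.symm)
    · exact Or.inr e
    · exact absurd (e ▸ hd) hc

end LXa

theorem jLX5 : JLX5.{u} := by
  intro G _ _ n₁ n₂ a b c h h5
  by_cases k₁ : ∀ z : G, z ≠ 1 → cs(z) ≠ n₂ → n₁ ∣ cs(z)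
  · exact Or.inr (Or.inl k₁)
  by_cases k₂ : ∀ z : G, z ≠ 1 → cs(z) ≠ n₁ → n₂ ∣ cs(z)
  · exact Or.inr (Or.inr k₂)
  refine Or.inl fun l u x y hl hu u1 hr hs rl sl hx hy ux uy => ?_
  rcases h5 u u1 with e | e | e | e | e
  · exact h.ncomm u y e hy uy
  · exact h.ncomm x u hx e ux.symm
  · exact LXa.aux h h5 k₁ k₂ hl hu u1 hr hs rl sl hx hy ux uy e
  · exact LXa.aux h h5.swap k₁ k₂ hl hu u1 hr hs rl sl hx hy ux uy e
  · exact LXa.aux h h5.swap'.swap k₁ k₂ hl hu u1 hr hs rl sl hx hy ux uy e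

end CL.Rk5
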