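/-
Simple groups of conjugate type rank five: the nilpotent TI CC-subgroup (job RK5-NB).
-/
import Cfsg.Agent.Rk5.Defs
import Cfsg.Agent.Grp.PNilp

set_option autoImplicit false
set_option linter.unusedSectionVars false

universe u

namespace CL.Rk5

open Subgroup Cfsg CL.Grp CL.Fgs CL.Cit CL.Rk4
open scoped MatrixGroups Classical

namespace NBx

variable {G : Type u} [Group G] [Finite G] {n₁ n₂ c l : ℕ} {y : G} {K L : Subgroup G}

theorem rel (h : AL G n₁ n₂ c) (hl : l.Prime) (ho : orderOf y = l) (hy : cs(y) = n₂) (w : G) (hw : w ∈ cent(y))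
    (hw' : IsPiElt {l}ᶜ w) : cent(y) ≤ cent(w) ∨ (cent(w)).relIndex cent(y) = c / n₂ := by
  have hc : (orderOf y).Coprime (orderOf w) := ho ▸ ((isPiElt_compl_singleton_iff_coprime hl).1 hw').symm
  have e := cs_mul_of_coprime' (mem_cent'.1 hw) hc
  have h0 : 0 < n₂ := h.lt₂.trans' Nat.one_pos
  rw [hy] at e
  refine (h.one _ (mul_ne_one_of_coprime (h.ne_one₂ hy) (mem_cent'.1 hw) hc) (e ▸ Dvd.intro_left _ rfl)).imp
    (fun a => relIndex_eq_one.1 (Nat.eq_of_mul_eq_mul_right h0 (by rw [← e, a, one_mul]))) fun a => ?_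
  rw [← a, e, Nat.mul_div_cancel _ h0]

theorem eB (h : AL G n₁ n₂ c) (hy : cs(y) = n₂) {k : G} (h1 : k ≠ 1) (hk : cent(y) ≤ cent(k)) : cent(y) = cent(k) :=
  cent_eq_of_le_of_cs_le hk (hy.trans (h.head₂ k h1 (hy ▸ cs_dvd_of_le hk)).symm).le

/-- `C(y) = L × K` with `K` central -/
structure St (n₁ n₂ c l : ℕ) (y : G) (L K : Subgroup G) : Prop where
  al : AL G n₁ n₂ c
  hy : cs(y) = n₂
  hl : l.Prime
  hd : l ∣ n₁
  mL : ∀ u, u ∈ L ↔ u ∈ cent(y) ∧ IsPiElt {l} u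
  mK : ∀ u, u ∈ K ↔ u ∈ cent(y) ∧ IsPiElt {l}ᶜ u
  cK : ∀ k ∈ K, cent(y) ≤ cent(k)

namespace St
variable (s : St n₁ n₂ c l y L K)
include s

theorem KB : K ≤ cent(y) := fun u hu => ((s.mK u).1 hu).1

theorem eK {k : G} (hk : k ∈ K) (h1 : k ≠ 1) : cent(y) = cent(k) := eB s.al s.hy h1 (s.cK k hk)

theorem exK : ∃ k ∈ K, k ≠ 1 := by
  obtain ⟨p, hp, h1, h2⟩ := s.al.two₁ l
  obtain ⟨k, a, b, d⟩ := ito_exists_elt hp (H := cent(y)) (by rwa [s.al.card₂ s.hy])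
  exact ⟨k, (s.mK k).2 ⟨a, b.mono (by simpa using h1.symm)⟩, d⟩

theorem exL : ∃ k ∈ L, k ≠ 1 := by
  obtain ⟨k, a, b, d⟩ := ito_exists_elt s.hl (H := cent(y)) (by rw [s.al.card₂ s.hy]; exact s.hd)
  exact ⟨k, (s.mL k).2 ⟨a, b⟩, d⟩

theorem pL : IsPGroup l L :=
  have := Fact.mk s.hl
  isPGroup_of_forall_isPiElt fun u hu => ((s.mL u).1 hu).2

theorem K_norm : normalizer (cent(y) : Set G) ≤ normalizer (K : Set G) := fun g hg => mem_normalizer_iff.2 fun u => by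
  rw [s.mK, s.mK, isPiElt_conj_iff, ← mem_normalizer_iff.1 hg]

theorem nrm {k g : G} (hk : k ∈ K) (h1 : k ≠ 1) (hg : g * k * g⁻¹ ∈ K) : g ∈ normalizer (cent(y) : Set G) :=
  mem_normalizer_iff.2 fun u => by
    conv_rhs => rw [s.eK hg (by simpa using h1), conj_mem_cent_conj, ← s.eK hk h1]

theorem nK : (K.subgroupOf cent(y)).Normal :=
  (normal_subgroupOf_iff_le_normalizer s.KB).2 (le_normalizer.trans s.K_norm)

theorem quo : haveI := s.nK; IsPGroup l (cent(y) ⧸ K.subgroupOf cent(y)) :=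
  haveI := s.nK
  isPGroup_quotient_of_forall (S := L.subgroupOf cent(y)) s.pL.comap_subtype fun g =>
    ⟨⟨piPart {l} g, piPart_mem g.2⟩, (s.mL _).2 ⟨piPart_mem g.2, isPiElt_piPart _ _⟩,
      (s.mK _).2 ⟨mul_mem (inv_mem (piPart_mem g.2)) g.2, (piPart_spec {l} (g : G)).2.2⟩⟩

theorem nil : Group.IsNilpotent cent(y) := by
  have := s.nK
  have := Fact.mk s.hl
  have := s.quo.isNilpotent
  refine Subgroup.isNilpotent_of_ker_le_center (QuotientGroup.mk' (K.subgroupOf cent(y))) fun k hk => ?_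
  rw [QuotientGroup.ker_mk'] at hk
  exact mem_center_iff.2 fun g => Subtype.ext (mem_cent.1 (s.cK k hk g.2))

theorem cc2 {g : G} (hg : g ∈ L) (h1 : g ≠ 1) (e : cs(g) = n₂) : cent(g) ≤ cent(y) := by
  have := Fact.mk s.hl
  have := s.nK
  obtain ⟨gB, gl⟩ := (s.mL g).1 hg
  have hm := Nat.minFac_prime (mt orderOf_eq_one_iff.1 h1)
  obtain ⟨g', o', c', e'⟩ := H2x.pw s.al.toH2.symm e s.hl
    ((gl _ hm (Nat.minFac_dvd _) : _ = l) ▸ Nat.minFac_dvd (orderOf g))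
  have sol : Group.IsSolvable cent(g) := e' ▸ (abf_in (rel s.al s.hl o' c')).1
  obtain ⟨k, hk, k1⟩ := s.exK
  obtain ⟨z, hz, oz, cz⟩ := ito_exists_central s.pL fun a => h1 (mem_bot.1 (a ▸ hg))
  obtain ⟨zB, zl⟩ := (s.mL z).1 hz
  have bz : cent(y) ≤ cent(z) := fun b hb => by
    rw [← piPart_mul_piPart_compl {l} b]
    exact mul_mem (cz ((s.mL _).2 ⟨piPart_mem hb, isPiElt_piPart _ _⟩))
      (mem_cent_comm.1 (s.cK _ ((s.mK _).2 ⟨piPart_mem hb, isPiElt_piPart _ _⟩) zB))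
  have ez := eB s.al s.hy (ito_piElt_of_orderOf s.hl oz).2 bz
  have Kg : K ≤ cent(g) := fun u hu => mem_cent_comm.1 (s.cK u hu gB)
  obtain ⟨j, hj⟩ := s.quo.exists_card_eq
  have hr : K.relIndex cent(g) = l ^ j := by
    refine Nat.eq_of_mul_eq_mul_right (cs_pos g) ?_
    rw [relIndex_mul_index Kg, e, ← s.hy, ← relIndex_mul_index s.KB, ← hj]; rfl
  have hn := pq sol (mem_cent_comm.1 (bz gB)) zl Kg (coprime_card_of_forall_isPiElt fun u hu => ((s.mK u).1 hu).2) hr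
    fun b hb u hu => (mem_cent.1 (s.cK u hu (ez ▸ hb.1))).symm
  intro b hb
  have bn := s.nrm hk k1 ((mem_normalizer_iff.1 (hn hb) k).1 hk)
  refine IsPiElt.mem_of_index (π := {q | q ∣ n₁}) (N := cent(y).subgroupOf (normalizer (cent(y) : Set G)))
    (x := ⟨b, bn⟩) (fun q hq hd h2 => hq.one_lt.ne' (Nat.eq_one_of_dvd_coprimes s.al.cop h2 (hd.trans ?_)))
    (isPiElt_coe_iff.1 fun q _ hd => hd.trans (s.al.card₂ e ▸ Subgroup.orderOf_dvd_natCard _ hb))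
  exact s.hy ▸ relIndex_dvd_index_of_le le_normalizer

theorem cc (g : G) (hg : g ∈ cent(y)) (h1 : g ≠ 1) : cent(g) ≤ cent(y) := by
  by_cases a : piPart {l}ᶜ g = 1
  swap
  · exact (cent_le_piPart _ g).trans (s.eK ((s.mK _).2 ⟨piPart_mem hg, isPiElt_piPart _ _⟩) a).ge
  rw [piPart_eq_one_iff, compl_compl] at a
  by_cases e : cs(g) = n₂
  · exact s.cc2 ((s.mL g).2 ⟨hg, a⟩) h1 e
  obtain ⟨k, hk, k1⟩ := s.exK
  have hm := Nat.minFac_prime (mt orderOf_eq_one_iff.1 h1)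
  have e1 := (s.al.alpha h1 s.hl s.hd (((a _ hm (Nat.minFac_dvd _) : _ = l) ▸ Nat.minFac_dvd (orderOf g) :
    l ∣ orderOf g).trans (orderOf_dvd_card_cent g))).2.resolve_left e
  have cm : Commute g k := mem_cent.1 (s.cK k hk hg)
  have co := a.coprime ((s.mK k).1 hk).2
  have ek : cs(k) = n₂ := by rw [← s.hy, s.eK hk k1]
  have e2 := (s.al.one _ (mul_ne_one_of_coprime h1 cm co) (ek ▸ cs_dvd_cs_mul_of_coprime' cm co)).resolve_left
    fun b => e (s.al.head₂ g h1 (b ▸ cs_dvd_cs_mul_of_coprime cm co))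
  rw [← cent_eq_of_le_of_cs_le ((cent_mul_of_coprime cm co).le.trans inf_le_left) (e2.trans e1.symm).le,
    cent_mul_of_coprime cm co, s.eK hk k1]
  exact inf_le_right

theorem ti : IsTISubset (cent(y) : Set G) := fun g hg x hx hx' => by
  by_contra h1
  obtain ⟨k, hk, k1⟩ := s.exK
  have a := s.cc x hx h1 (mem_cent_conj.1 (mem_cent_comm.1 (s.cK k hk hx')))
  rw [← inv_inv g] at a hg
  rw [inv_inv g⁻¹] at a
  exact hg (inv_mem (s.nrm hk k1 ((s.mK _).2 ⟨a, ((s.mK k).1 hk).2.conj _⟩)))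

theorem lt : cent(y) < normalizer (cent(y) : Set G) := lt_of_le_of_ne le_normalizer fun e => by
  obtain ⟨p, hp, h1, h2⟩ := s.al.two₁ l
  have := Fact.mk hp
  obtain ⟨P, hP⟩ := exists_sylow_le_of_not_dvd_index (p := p) (H := cent(y)) fun a =>
    hp.one_lt.ne' (Nat.eq_one_of_dvd_coprimes s.al.cop h2 (s.hy ▸ a))
  have PK : (P : Subgroup G) ≤ K := fun u hu =>
    (s.mK u).2 ⟨hP hu, (isPiElt_singleton_of_mem P.isPGroup' hu).mono (by simpa using h1.symm)⟩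
  have p0 := ito_sylow_ne_bot (h2.trans (s.al.card ▸ Dvd.intro _ rfl)) P
  obtain ⟨k, hk, k1⟩ := (bot_or_exists_ne_one _).resolve_left p0
  obtain ⟨Q, N, hN, hc⟩ := hasNormalPComplement_of_normalizer_le_centralizer P fun g hg u hu =>
    (mem_cent.1 (s.cK u (PK hu) (e.ge (s.nrm (PK hk) k1 (PK ((mem_normalizer_iff.1 hg k).1 hk)))))).symm
  rcases s.al.nas.1.eq_bot_or_eq_top_of_normal N hN with rfl | rfl
  · have a : IsPGroup p G := (isComplement'_bot_left.1 hc ▸ Q.isPGroup').of_equiv topEquiv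
    have := a.isNilpotent
    exact s.al.nas.not_solvable inferInstance
  · exact ito_sylow_ne_bot (h2.trans (s.al.card ▸ Dvd.intro _ rfl)) Q (isComplement'_top_left.1 hc)

theorem nb : NB n₁ n₂ cent(y) K := by
  obtain ⟨k, hk, k1⟩ := s.exK
  obtain ⟨g, hg, g1⟩ := s.exL
  exact ⟨s.al.nas, s.al.card, s.al.cop, s.al.even, s.al.two₁, s.al.card₂ s.hy, s.nil, s.cc, s.ti, s.lt,
    fun a => k1 (mem_bot.1 (a ▸ hk)), lt_of_le_of_ne s.KB fun a =>
      g1 (((s.mL g).1 hg).2.eq_one ((s.mK g).1 (a.ge ((s.mL g).1 hg).1)).2), s.K_norm⟩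

end St

end NBx

open NBx in
theorem jNB : JNB.{u} := by
  intro G _ _ n₁ n₂ c h y z hy hz hne e hle
  have z1 := (ito_piElt_of_orderOf hz rfl).2
  have ez := eB h e z1 hle
  obtain ⟨l, hl, h1⟩ := ito_nil_in hy hne (rel h hy rfl e) (ez ▸ rel h hz rfl (by rw [← e, ez]))
  obtain ⟨l, hl, hd, h1⟩ : ∃ l : ℕ, l.Prime ∧ l ∣ n₁ ∧ ∀ (q : ℕ) (u : G), q.Prime → q ≠ l → u ∈ cent(y) →
      IsPiElt {q} u → cent(y) ≤ cent(u) := by
    by_cases hd : l ∣ n₁
    · exact ⟨l, hl, hd, h1⟩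
    refine ⟨_, hy, h.ord₂ y _ e hy dvd_rfl, fun q u hq _ hu hu' => ?_⟩
    by_cases a : q = l
    · have := Fact.mk hq
      rw [hu'.eq_one (isPiElt_compl_of_mem (by rwa [h.card₂ e, a]) hu), cent_one]
      exact le_top
    · exact h1 q u hq a hu hu'
  have := Fact.mk hl
  have h2 : ∀ u ∈ cent(y), IsPiElt {l}ᶜ u → cent(y) ≤ cent(u) := fun u => ito_le_cent_of_primary (π := {l}ᶜ) h1
  obtain ⟨L, K, mL, mK, -⟩ := exists_direct_in (p := l) (C := cent(y)) fun u hu hu' => by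
    rw [relIndex_eq_one.2 (h2 u hu hu')]
    exact hl.not_dvd_one
  exact ⟨K, St.nb ⟨h, e, hl, hd, mL, mK, fun k hk => h2 k ((mK k).1 hk).1 ((mK k).1 hk).2⟩⟩

end CL.Rk5
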