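/-
Simple groups of conjugate type rank five: orbit counting on the cosets of a centralizer.
-/
import Cfsg.Agent.Rk5.Defs

set_option autoImplicit false

universe u

namespace CL.Rk5

open Subgroup Cfsg CL.Grp CL.Fgs CL.Cit CL.Rk4 MulAction
open scoped Classical

namespace Orbx

variable {G : Type u} [Group G]

theorem rel {A E : Subgroup G} {g h : G}
    (e : (Quotient.mk'' (h : G ⧸ A) : orbitRel.Quotient E (G ⧸ A)) = Quotient.mk'' (g : G ⧸ A)) :
    ∃ n ∈ E, ∃ a ∈ A, h = n * g * a := by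
  obtain ⟨n, hn⟩ := orbitRel_apply.1 (Quotient.exact' e)
  exact ⟨n, n.2, (n * g)⁻¹ * h, QuotientGroup.eq.1 (hn : ((n * g : G) : G ⧸ A) = h), by group⟩

variable [Finite G] {n₁ n₂ : ℕ} {B K A : Subgroup G}

theorem inf_bot (h : NB n₁ n₂ B K) (hA : A.index = n₁) : A ⊓ B = ⊥ := by
  have h1 := A.index_mul_card
  rw [hA, h.card] at h1
  refine (disjoint_of_coprime_natCard ?_).eq_bot
  rw [Nat.eq_of_mul_eq_mul_left (h.cardB ▸ Nat.card_pos) h1, h.cardB]
  exact h.cop.symm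

theorem fact (h : NB n₁ n₂ B K) (hA : A.index = n₁) (q : G ⧸ A) : ∃ b ∈ B, (b : G ⧸ A) = q := by
  have h1 : Function.Injective fun b : B => ((b : G) : G ⧸ A) := fun b c e => Subtype.ext
    (inv_mul_eq_one.1 (mem_bot.1 (inf_bot h hA ▸ ⟨QuotientGroup.eq.1 e, B.mul_mem (B.inv_mem b.2) c.2⟩)))
  obtain ⟨b, hb⟩ := (h1.bijective_of_nat_card_le (hA.trans h.cardB.symm).le).2 q
  exact ⟨b, b.2, hb⟩

theorem card_E (h : NB n₁ n₂ B K) (hA : A.index = n₁) :
    Nat.card (A ⊓ normalizer (B : Set G) : Subgroup G) = B.relIndex (normalizer (B : Set G)) := by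
  have h0 : 0 < n₁ := h.cardB ▸ Nat.card_pos
  have h1 := relIndex_mul_relIndex ⊥ _ _ bot_le (inf_le_right : A ⊓ normalizer (B : Set G) ≤ _)
  have h2 := relIndex_mul_relIndex ⊥ _ _ bot_le (le_normalizer (H := B))
  have h3 := relIndex_le_of_le_right (H := A) (le_top (a := normalizer (B : Set G)))
    (by rw [relIndex_top_right]; omega)
  have h4 := relIndex_le_of_le_right (H := A) (le_normalizer (H := B)) index_ne_zero_of_finite
  rw [← inf_relIndex_right, inf_bot h hA, relIndex_bot_left, h.cardB] at h4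
  rw [relIndex_top_right, hA] at h3
  rw [inf_relIndex_right, le_antisymm h3 h4, ← h2, relIndex_bot_left, relIndex_bot_left, h.cardB, mul_comm n₁] at h1
  exact Nat.eq_of_mul_eq_mul_right h0 h1

theorem orbits (h : NB n₁ n₂ B K) (hA : A.index = n₁) :
    Nat.card (orbitRel.Quotient (A ⊓ normalizer (B : Set G) : Subgroup G) (G ⧸ A)) *
      B.relIndex (normalizer (B : Set G)) ≤ B.relIndex (normalizer (B : Set G)) + (n₁ - 1) := by
  set E : Subgroup G := A ⊓ normalizer (B : Set G) with hE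
  have := Fintype.ofFinite G
  have h0 : 0 < n₁ := h.cardB ▸ Nat.card_pos
  have h1 := sum_card_fixedBy_eq_card_orbits_mul_card_group E (G ⧸ A)
  have h2 : ∀ n ∈ (Finset.univ : Finset E).erase 1, Fintype.card (fixedBy (G ⧸ A) n) ≤ 1 := fun n hn => by
    have key : ∀ q : fixedBy (G ⧸ A) n, (q : G ⧸ A) = ((1 : G) : G ⧸ A) := by
      rintro ⟨q, hq⟩
      obtain ⟨b, hb, rfl⟩ := fact h hA q
      by_contra hb1
      have k1 : (n * b * (n : G)⁻¹)⁻¹ * b ∈ A ⊓ B := by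
        refine ⟨?_, B.mul_mem (B.inv_mem ((mem_normalizer_iff.1 n.2.2 b).1 hb)) hb⟩
        rw [mul_inv_rev, inv_inv, mul_assoc]
        exact A.mul_mem n.2.1 (QuotientGroup.eq.1 (hq : ((n * b : G) : G ⧸ A) = b))
      rw [inf_bot h hA, mem_bot, inv_mul_eq_one, mul_inv_eq_iff_eq_mul] at k1
      have k2 : (n : G) ∈ A ⊓ B := ⟨n.2.1, h.cc b hb (by rintro rfl; exact hb1 rfl)
        (mem_centralizer_singleton_iff.2 k1)⟩
      rw [inf_bot h hA, mem_bot] at k2
      exact Finset.ne_of_mem_erase hn (Subtype.ext k2)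
    exact Fintype.card_le_one_iff.2 fun a b => Subtype.ext ((key a).trans (key b).symm)
  have h3 := Finset.sum_le_card_nsmul _ _ _ h2
  have h4 : Fintype.card (fixedBy (G ⧸ A) (1 : E)) ≤ n₁ := by
    rw [← hA, index, Nat.card_eq_fintype_card]
    exact Fintype.card_subtype_le _
  have h5 : 0 < Fintype.card E := Fintype.card_pos
  rw [← Finset.add_sum_erase _ _ (Finset.mem_univ 1)] at h1
  rw [Finset.card_erase_of_mem (Finset.mem_univ 1), Finset.card_univ, smul_eq_mul, mul_one] at h3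
  rw [← card_E h hA, ← hE, Nat.card_eq_fintype_card, Nat.card_eq_fintype_card, ← h1]
  omega

end Orbx

theorem jOrb1 : JOrb1.{u} := by
  intro G _ _ x hr g h hg hh
  have key : ∀ {k : G}, k ∉ cent(x) → (Quotient.mk'' (k : G ⧸ cent(x)) : orbitRel.Quotient cent(x) (G ⧸ cent(x))) ≠
      Quotient.mk'' ((1 : G) : G ⧸ cent(x)) := fun hk e => by
    obtain ⟨n, hn, a, ha, rfl⟩ := Orbx.rel e
    exact hk (mul_mem (mul_mem hn (one_mem _)) ha)
  obtain ⟨n, hn, a, ha, rfl⟩ := Orbx.rel (((Nat.card_eq_two_iff' _).1 hr).unique (key hh) (key hg))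
  refine ⟨n, hn, ?_⟩
  calc n * (g * x * g⁻¹) * n⁻¹ = n * g * (x * a) * (n * g * a)⁻¹ := by group
    _ = _ := by rw [← mem_centralizer_singleton_iff.1 ha, ← mul_assoc]

theorem jOrb2 : JOrb2.{u} := by
  intro G _ _ n₁ n₂ B K A h hA hle
  have h1 : Function.Surjective (Quotient.map' id fun _ _ ⟨n, hn⟩ => ⟨⟨n, n.2.1⟩, hn⟩ :
      orbitRel.Quotient (A ⊓ normalizer (B : Set G) : Subgroup G) (G ⧸ A) → orbitRel.Quotient A (G ⧸ A)) :=
    fun q => Quotient.inductionOn' q fun x => ⟨Quotient.mk'' x, rfl⟩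
  have h2 := (h1.bijective_of_nat_card_le (Nat.le_of_mul_le_mul_right (((Orbx.orbits h hA).trans hle).trans
    (mul_comm _ _).le) (Nat.pos_of_ne_zero index_ne_zero_of_finite))).1
  have h3 : ∀ a ∈ A, ∀ k ∈ K, ∃ k' ∈ K, ∃ a' ∈ A, a * k = k' * a' := fun a ha k hk => by
    obtain ⟨n, hn, c, hc, e⟩ := Orbx.rel (g := k) (h := a * k) (h2 (Quotient.sound' ⟨⟨a, ha⟩, rfl⟩))
    exact ⟨_, (mem_normalizer_iff.1 (h.K_norm hn.2) k).1 hk, _, mul_mem hn.1 hc, by rw [e]; group⟩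
  let L : Subgroup G :=
    { carrier := {g | ∃ k ∈ K, ∃ a ∈ A, g = k * a}
      one_mem' := ⟨1, one_mem _, 1, one_mem _, by simp⟩
      mul_mem' := by
        rintro _ _ ⟨k, hk, a, ha, rfl⟩ ⟨k', hk', a', ha', rfl⟩
        obtain ⟨l, hl, c, hc, e⟩ := h3 a ha k' hk'
        exact ⟨_, mul_mem hk hl, _, mul_mem hc ha', by
          rw [mul_assoc, ← mul_assoc a, e]; simp only [mul_assoc]⟩
      inv_mem' := by
        rintro _ ⟨k, hk, a, ha, rfl⟩
        rw [mul_inv_rev]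
        exact h3 _ (inv_mem ha) _ (inv_mem hk) }
  have h4 : K ≤ L.normalCore := fun k hk g => by
    obtain ⟨b, hb, e⟩ := Orbx.fact h hA (g⁻¹ : G)
    have k1 : g * b ∈ L := ⟨1, one_mem _, _, by simpa using inv_mem (QuotientGroup.eq.1 e), (one_mul _).symm⟩
    have k2 : b⁻¹ * k * b⁻¹⁻¹ ∈ L :=
      ⟨_, (mem_normalizer_iff.1 (h.K_norm (le_normalizer (inv_mem hb))) k).1 hk, 1, one_mem _, (mul_one _).symm⟩
    simpa [mul_assoc] using mul_mem (mul_mem k1 k2) (inv_mem k1)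
  have h5 := (h.nas.1.eq_bot_or_eq_top_of_normal L.normalCore inferInstance).resolve_left
    fun e => h.K_ne (le_bot_iff.1 (e ▸ h4))
  obtain ⟨b, hb, hb'⟩ := SetLike.exists_of_lt h.K_lt
  obtain ⟨k, hk, a, ha, rfl⟩ := normalCore_le L (h5 ▸ mem_top b)
  have h6 : a ∈ A ⊓ B := ⟨ha, (mul_mem_cancel_left (h.K_lt.le hk)).1 hb⟩
  rw [Orbx.inf_bot h hA, mem_bot] at h6
  exact hb' (by simpa [h6] using hk)

end CL.Rk5
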