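/-
Rank five project: a transvection of `PSp₄(2ⁿ)`.
-/
import Cfsg.Agent.Rk5.Defs
import Cfsg.Agent.Cls.SpSimple
import Cfsg.Agent.Cls.WittMatrix

set_option autoImplicit false

universe u

namespace CL.Rk5

open Subgroup Cfsg CL.Grp CL.Fgs CL.Cit CL.Rk4 CL.Sp
open scoped MatrixGroups Classical Matrix

namespace S6a

variable {F : Type} [Field F]

/-- the transvection with centre `e` -/
def T (e : Fin 2 ⊕ Fin 2 → F) : Matrix.symplecticGroup (Fin 2) F := ⟨sympTransvection 2 e 1, sympTransvection_mem e 1⟩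

theorem spT (e : Fin 2 ⊕ Fin 2 → F) : spLin (Fin 2) F (T e) = tv (stdForm_isAlt (Fin 2) F) e 1 :=
  spLin_sympTransvection e 1

theorem mem_cT {e : Fin 2 ⊕ Fin 2 → F} {g : Matrix.symplecticGroup (Fin 2) F} (h : spLin (Fin 2) F g e = e) :
    g ∈ cent(T e) :=
  mem_cent_iff_conj.2 (spLin_injective (by rw [map_mul, map_mul, map_inv, spT, conj_tv _ (spLin_mem g), h]))

theorem ord_T [CharP F 2] {e : Fin 2 ⊕ Fin 2 → F} (he : e ≠ 0) : orderOf (T e) = 2 := by
  refine orderOf_eq_prime (spLin_injective ?_) fun h => he ?_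
  · rw [sq, map_mul, spT, tv_mul, CharTwo.add_self_eq_zero, tv_zero, map_one]
  · refine (stdForm_nondegenerate (Fin 2) F).2 e fun x => ?_
    have := DFunLike.congr_fun (spT e) x
    rw [h, map_one, tv_apply, one_mul] at this
    exact (smul_eq_zero.1 (left_eq_add.1 this)).resolve_right he

/-- a diagonal element -/
def D (a : Fˣ) : Matrix.symplecticGroup (Fin 2) F :=
  ⟨Matrix.diagonal (Sum.elim ![1, (a : F)] ![1, ((a⁻¹ : Fˣ) : F)]), (mem_symplecticGroup_iff _).2 fun u v => by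
    simp only [stdForm_apply', Matrix.mulVec_diagonal, Fin.sum_univ_two, Sum.elim_inl, Sum.elim_inr,
      Matrix.cons_val_zero, Matrix.cons_val_one]
    linear_combination (u (.inr 1) * v (.inl 1) - u (.inl 1) * v (.inr 1)) * a.mul_inv⟩

theorem ord_D {a : Fˣ} {s : ℕ} [hs : Fact s.Prime] (ha : orderOf a = s) : orderOf (D a) = s := by
  have h1 : a ^ s = 1 := ha ▸ pow_orderOf_eq_one a
  refine orderOf_eq_prime (Subtype.ext ?_) fun h => hs.out.one_lt.ne' ?_
  · rw [SubmonoidClass.coe_pow, D, Matrix.diagonal_pow, OneMemClass.coe_one, ← Matrix.diagonal_one]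
    congr 1
    funext i
    rcases i with i | i <;> fin_cases i <;> simp [← Units.val_pow_eq_pow_val, h1]
  · have := congrFun (congrFun (congrArg Subtype.val h) (.inl 1)) (.inl 1)
    rw [← ha, orderOf_eq_one_iff]
    exact Units.ext (by simpa [D] using this)

theorem D_fix (a : Fˣ) : spLin (Fin 2) F (D a) (Pi.single (.inl 0) 1) = Pi.single (.inl 0) 1 := by
  rw [spLin_apply, D, Matrix.diagonal_mulVec_single]
  simp

end S6a

open S6a

theorem jS6a : JS6a := by
  intro F _ _ n hn hF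
  have : Fact (Nat.Prime 2) := ⟨Nat.prime_two⟩
  have : CharP F 2 := charP_of_card_eq_prime_pow hF
  have h4 : 2 ^ 2 ≤ 2 ^ n := Nat.pow_le_pow_right two_pos hn
  have h2 : 2 ∣ 2 ^ n := dvd_pow_self 2 (by omega)
  obtain ⟨s, hs, hd⟩ := Nat.exists_prime_and_dvd (n := 2 ^ n - 1) (by omega)
  have : Fact s.Prime := ⟨hs⟩
  obtain ⟨a, ha⟩ := exists_prime_orderOf_dvd_card (G := Fˣ) s (by rwa [Fintype.card_units, hF])
  obtain ⟨P⟩ : Nonempty (Sylow 2 (Matrix.symplecticGroup (Fin 2) F)) := inferInstance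
  let _ : MulAction (Matrix.symplecticGroup (Fin 2) F) (Fin 2 ⊕ Fin 2 → F) := MulAction.compHom _ (spLin (Fin 2) F)
  obtain ⟨e, he, h0⟩ := P.isPGroup'.exists_fixed_point_of_prime_dvd_card_of_fixed_point (Fin 2 ⊕ Fin 2 → F)
    (by rw [Nat.card_fun, Nat.card_eq_fintype_card, hF]; exact h2.trans (dvd_pow_self _ (by simp)))
    (a := 0) (fun g => map_zero (spLin (Fin 2) F g))
  obtain ⟨A, hA⟩ := CL.Cls.exists_sp_family (m := 2) (F := F) (fun _ : Unit => e)
    (fun _ : Unit => Pi.single (.inl 0) 1) (linearIndependent_unique_iff.2 h0.symm)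
    (linearIndependent_unique_iff.2 (by simp)) fun _ _ => by
      rw [← stdForm_eq_sympForm, ← stdForm_eq_sympForm, stdForm_isAlt, stdForm_isAlt]
  have hD : A⁻¹ * D a * A ∈ cent(T e) := mem_cT (by
    rw [map_mul, map_mul, LinearEquiv.mul_apply, LinearEquiv.mul_apply, spLin_apply A, hA (), D_fix, ← hA (),
      ← spLin_apply, ← LinearEquiv.mul_apply, ← map_mul, inv_mul_cancel, map_one, LinearEquiv.coe_one, id])
  have hi : Function.Injective (QuotientGroup.mk' (center (Matrix.symplecticGroup (Fin 2) F))) := by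
    rw [← MonoidHom.ker_eq_bot_iff, QuotientGroup.ker_mk', eq_bot_iff]
    intro g hg
    rcases (mem_center_symplecticGroup_iff g).1 hg with h | h
    · exact Subtype.ext h
    · exact Subtype.ext (h.trans (Matrix.ext fun _ _ => CharTwo.neg_eq _))
  refine ⟨(T e : PSp 2 F), s, (orderOf_injective _ hi _).trans (ord_T h0.symm),
    fun h => not_dvd_cs_iff.2 ⟨P, fun g hg => mem_cT (he ⟨g, hg⟩)⟩ (h.trans (cs_mk_dvd _ _)), hs, ?_, ?_⟩
  · rintro rfl
    omega
  · have := orderOf_dvd_natCard cent((T e : PSp 2 F)) (mem_cent.2 ((mem_cent.1 hD).map (QuotientGroup.mk' _)))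
    rwa [orderOf_injective _ hi, ← inv_inv A, inv_inv A⁻¹, orderOf_conj', ord_D ha] at this

end CL.Rk5
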