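/-
Simple groups of conjugate type rank five (S3194): the trick lemma.
-/
import Cfsg.Agent.Rk5.Defs

set_option autoImplicit false

universe u

namespace CL.Rk5

open Subgroup Cfsg CL.Grp CL.Fgs CL.Cit CL.Rk4
open scoped MatrixGroups Classical

namespace Tx

theorem card_mul_rel {G : Type u} [Group G] {P K : Subgroup G} (h : P ≤ K) :
    Nat.card P * P.relIndex K = Nat.card K := by
  rw [← Nat.card_congr (subgroupOfEquivOfLe h).toEquiv]
  exact card_mul_index _

end Tx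

theorem jT : JT.{u} := by
  intro G _ _ n₁ n₂ m h hG x y hxp hyp hx hy hm
  have := Fact.mk hyp
  have hr : orderOf x ∣ n₂ := h.ord₁ x _ hx hxp dvd_rfl
  have hs : orderOf y ∣ n₁ := h.ord₂ y _ hy hyp dvd_rfl
  have hs2 : ¬ orderOf y ∣ n₂ := fun hd =>
    hyp.one_lt.ne' (Nat.eq_one_of_dvd_coprimes h.cop hs hd)
  have hne : orderOf y ≠ orderOf x := fun e => hs2 (e ▸ hr)
  have hpos : 0 < n₁ * n₂ := Nat.mul_pos (by have := h.lt₁; omega) (by have := h.lt₂; omega)
  have hE : Nat.card (cent(x) ⊓ cent(y) : Subgroup G) = m := by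
    have e := card_mul_index (cent(x) ⊓ cent(y) : Subgroup G)
    rw [Fgs.index_inf_of_coprime (by
      change (cs(x)).Coprime (cs(y))
      rw [hx, hy]; exact h.cop)] at e
    change _ * (cs(x) * cs(y)) = _ at e
    rw [hx, hy, hG] at e
    exact Nat.eq_of_mul_eq_mul_right hpos e
  obtain ⟨P, hP⟩ := exists_isSylowIn (orderOf y) (cent(x) ⊓ cent(y) : Subgroup G)
  have hPE := Tx.card_mul_rel hP.le
  rw [hE] at hPE
  have hPne : P ≠ ⊥ := by
    rintro rfl
    rw [card_bot, one_mul] at hPE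
    exact hP.not_dvd (hPE ▸ hm)
  obtain ⟨w, hwP, hwo, hPw⟩ := ito_exists_central hP.isPGroup hPne
  obtain ⟨hw1, hw2⟩ := ito_piElt_of_orderOf hyp hwo
  have hwx : Commute w x := mem_cent.1 (hP.le hwP).1
  have hwy : Commute w y := mem_cent.1 (hP.le hwP).2
  have hn1 : ¬ n₁ ∣ cs(w) := fun hd => by
    have h1 : Nat.card cent(w) ∣ m * n₂ :=
      card_cent_dvd (n := n₁) (by rw [hG]; ring) hd
    rw [← Tx.card_mul_rel hPw, ← hPE, mul_assoc] at h1
    have h2 := Nat.dvd_of_mul_dvd_mul_left Nat.card_pos h1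
    have hS : IsSylowIn (orderOf y) P cent(w) := ⟨hPw, hP.isPGroup, fun hd' =>
      ((Nat.Prime.dvd_mul hyp).1 (hd'.trans h2)).elim hP.not_dvd hs2⟩
    have hyN : zpowers y ≤ normalizer (P : Set G) :=
      (zpowers_le.2 (show y ∈ centralizer (P : Set G) from fun g hg =>
        mem_cent.1 (hP.le hg).2)).trans (centralizer_le_normalizer _)
    have hQ : IsPGroup (orderOf y) (zpowers y ⊔ P : Subgroup G) :=
      (ito_piElt_of_orderOf hyp rfl).1.isPGroup_zpowers.to_sup_of_normal_right' hP.isPGroup hyN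
    have e := hS.eq_of_le hQ le_sup_right (sup_le (zpowers_le.2 (mem_cent'.2 hwy)) hPw)
    have hyP : y ∈ P := e ▸ (le_sup_left : zpowers y ≤ zpowers y ⊔ P) (mem_zpowers y)
    exact h.ncomm x y hx hy (mem_cent'.1 (hP.le hyP).1)
  have hn2 : cs(w) ≠ n₂ := fun e => h.ncomm x w hx e hwx.symm
  have hd2 : n₂ ∣ cs(w) := (h.below w hw2).resolve_left hn1
  have hco : (orderOf w).Coprime (orderOf x) := by
    rw [hwo]; exact (Nat.coprime_primes hyp hxp).2 hne
  have hdd : n₁ * n₂ ∣ cs(w * x) :=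
    h.cop.mul_dvd_of_dvd_of_dvd (hx ▸ cs_dvd_cs_mul_of_coprime' hwx hco)
      (hd2.trans (cs_dvd_cs_mul_of_coprime hwx hco))
  refine ⟨?_, w, hw2, hw1, hwx, hn1, hn2, hdd⟩
  refine (Subgroup.orderOf_dvd_natCard cent(w * x) ?_).trans (card_cent_dvd hG hdd)
  exact mem_cent.2 (hwx.symm.mul_right (Commute.refl x))

end CL.Rk5
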