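/-
Simple groups of conjugate type rank five (S3194): the doubly transitive class.
-/
import Cfsg.Agent.Rk5.Defs
import Cfsg.Agent.S0680

set_option autoImplicit false

universe u

namespace CL.Rk5

open Subgroup Cfsg CL.Grp CL.Fgs CL.Cit CL.Rk4
open scoped MatrixGroups Classical

namespace T12x

variable {G : Type*} [Group G]

theorem conj_eq_iff {x g : G} : g * x * g⁻¹ = x ↔ g ∈ cent(x) := by
  rw [mem_centralizer_singleton_iff, mul_inv_eq_iff_eq_mul]

theorem iso_of {x : G} (hG : NAS G) (hx : x ≠ 1) (ht : Tr x) : Iso x := by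
  intro g hg
  by_contra hne
  have hgc : g ∉ cent(x) := fun h => hne (conj_eq_iff.2 h)
  have hg' : g * x * g⁻¹ ∈ cent(x) := mem_centralizer_singleton_iff.2 hg.eq.symm
  have hall : ∀ h : G, h * x * h⁻¹ ∈ cent(x) := by
    intro h
    by_cases hh : h ∈ cent(x)
    · rw [conj_eq_iff.2 hh]; exact mem_centralizer_singleton_iff.2 rfl
    · obtain ⟨a, ha, e⟩ := ht g h hgc hh
      rw [← e]
      exact mul_mem (mul_mem ha hg') (inv_mem ha)
  have h1 : normalClosure ({x} : Set G) ≤ cent(x) := by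
    rw [normalClosure, closure_le]
    intro y hy
    obtain ⟨z, hz, hc⟩ := Group.mem_conjugatesOfSet_iff.1 hy
    rw [Set.mem_singleton_iff] at hz
    subst hz
    obtain ⟨c, rfl⟩ := isConj_iff.1 hc
    exact hall c
  rcases hG.1.eq_bot_or_eq_top_of_normal (normalClosure ({x} : Set G)) inferInstance with e | e
  · have : x ∈ normalClosure ({x} : Set G) := subset_normalClosure rfl
    rw [e] at this
    exact hx this
  · rw [e, top_le_iff, cent_eq_top_iff] at h1
    exact hG.not_mem_center hx h1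

theorem inj_of [Finite G] {x : G} (ht : Tr x) (hi : Iso x) :
    Set.InjOn (fun δ => δ * x * δ⁻¹) {δ : G | IsConj x δ} := by
  set Ω : Set G := {δ : G | IsConj x δ} with hΩ
  have hm : Set.MapsTo (fun δ => δ * x * δ⁻¹) Ω Ω := fun δ _ => isConj_iff.2 ⟨δ, rfl⟩
  have hs : Set.SurjOn (fun δ => δ * x * δ⁻¹) Ω Ω := by
    intro y hy
    obtain ⟨h, rfl⟩ := isConj_iff.1 hy
    by_cases hh : h ∈ cent(x)
    · exact ⟨x, IsConj.refl x, by rw [conj_eq_iff.2 hh]; simp⟩
    · have h0 : h * x * h⁻¹ ∉ cent(x) := fun h' =>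
        hh (conj_eq_iff.1 (hi h (mem_centralizer_singleton_iff.1 h').symm))
      obtain ⟨a, ha, e⟩ := ht _ h h0 hh
      refine ⟨a * (h * x * h⁻¹) * a⁻¹, isConj_iff.2 ⟨a * h, by group⟩, ?_⟩
      have e1 : a⁻¹ * x * a = x := by
        have := conj_eq_iff.2 (inv_mem ha)
        rwa [inv_inv] at this
      calc a * (h * x * h⁻¹) * a⁻¹ * x * (a * (h * x * h⁻¹) * a⁻¹)⁻¹
          = a * (h * x * h⁻¹ * (a⁻¹ * x * a) * (h * x * h⁻¹)⁻¹) * a⁻¹ := by group
        _ = h * x * h⁻¹ := by rw [e1, e]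
  exact ((Set.toFinite Ω).surjOn_iff_bijOn_of_mapsTo hm).1 hs |>.injOn

end T12x

theorem jT12 : JT12.{u} := by
  intro G _ _ x hG hx ht
  have hi := T12x.iso_of hG hx ht
  refine ⟨hi, fun h k hh hc => hh ?_⟩
  have hinj := T12x.inj_of ht hi
  have e : k⁻¹ * x * k = k⁻¹ * (h * x * h⁻¹) * k := by
    apply hinj (isConj_iff.2 ⟨k⁻¹, by group⟩) (isConj_iff.2 ⟨k⁻¹ * h, by group⟩)
    have e1 := hc.eq
    calc k⁻¹ * x * k * x * (k⁻¹ * x * k)⁻¹
        = k⁻¹ * (h * x * h⁻¹) * ((h * x * h⁻¹)⁻¹ * x * (k * x * k⁻¹)) * x⁻¹ * k := by group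
      _ = k⁻¹ * (h * x * h⁻¹) * (k * x * k⁻¹ * ((h * x * h⁻¹)⁻¹ * x)) * x⁻¹ * k := by rw [e1]
      _ = k⁻¹ * (h * x * h⁻¹) * k * x * (k⁻¹ * (h * x * h⁻¹) * k)⁻¹ := by group
  rw [← T12x.conj_eq_iff]
  exact (mul_left_cancel (mul_right_cancel e)).symm

theorem jSharp : JSharp.{u} := by
  intro M F _ _ _ _ _ h2 hs
  letI : Fintype F := Fintype.ofFinite F
  set φ := MulAction.toPermHom M F with hφ
  haveI : MulAction.IsMultiplyPretransitive φ.range F 2 := by
    rw [MulAction.is_two_pretransitive_iff]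
    intro a b c d hab hcd
    obtain ⟨g, h1, h2⟩ := h2 a b c d hab hcd
    exact ⟨φ.rangeRestrict g, h1, h2⟩
  have hsharp : ∀ x : Fin 2 ↪ F, MulAction.stabilizer φ.range x = ⊥ := by
    intro x
    rw [eq_bot_iff]
    intro g hg
    obtain ⟨m, rfl⟩ := φ.rangeRestrict_surjective g
    have h0 : m • x 0 = x 0 := DFunLike.congr_fun (MulAction.mem_stabilizer_iff.1 hg) 0
    have h1 : m • x 1 = x 1 := DFunLike.congr_fun (MulAction.mem_stabilizer_iff.1 hg) 1
    have := hs m _ _ (x.injective.ne (by decide : (0 : Fin 2) ≠ 1)) h0 h1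
    rw [mem_bot]
    ext c
    exact this c
  obtain ⟨p, j, hp, -, hc, hP⟩ := Cfsg.Agent.S0680.result φ.range hsharp Fintype.one_lt_card
  haveI := Fact.mk hp
  obtain ⟨P⟩ : Nonempty (Sylow p φ.range) := inferInstance
  obtain ⟨hn, -, hpw, -, -, hm⟩ := hP inferInstance P
  refine ⟨p, hp, ⟨j, by rw [Nat.card_eq_fintype_card, hc]⟩, (P : Subgroup φ.range).comap φ.rangeRestrict,
    inferInstance, fun w hw c => ?_, fun g hg => ?_⟩
  · have := hpw _ hw
    rw [← map_pow] at this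
    exact DFunLike.congr_fun (congrArg Subtype.val this) c
  · exact (hm _).2 (Or.inr hg)

end CL.Rk5
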