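/-
Simple groups of conjugate type rank five (S3194): the fixed points of a two-point stabiliser.
-/
import Cfsg.Agent.Rk5.Defs

set_option autoImplicit false

universe u

namespace CL.Rk5

open Subgroup Cfsg CL.Grp CL.Fgs CL.Cit CL.Rk4
open scoped MatrixGroups Classical

namespace T3a

variable {G : Type u} [Group G]

/-- the conjugates of `x` centralising `K` -/
def Fx (x : G) (K : Subgroup G) : Type u := {γ : G // IsConj x γ ∧ K ≤ cent(γ)}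

instance [Finite G] (x : G) (K : Subgroup G) : Finite (Fx x K) := Subtype.finite

instance (x : G) (K : Subgroup G) : MulAction (normalizer (K : Set G)) (Fx x K) where
  smul m γ := ⟨m * γ.1 * (m : G)⁻¹, γ.2.1.trans (isConj_iff.2 ⟨m, rfl⟩), fun k hk =>
    mem_cent_conj.2 (γ.2.2 ((mem_normalizer_iff''.1 m.2 k).1 hk))⟩
  one_smul γ := Subtype.ext (show ((1 : normalizer (K : Set G)) : G) * γ.1 * _ = _ by simp)
  mul_smul a b γ := Subtype.ext (show ((a * b : normalizer (K : Set G)) : G) * γ.1 * _ =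
    a * (b * γ.1 * (b : G)⁻¹) * (a : G)⁻¹ by simp [mul_assoc])

theorem smul_eq {x : G} {K : Subgroup G} {m : normalizer (K : Set G)} {γ δ : Fx x K} :
    m • γ = δ ↔ m * γ.1 * (m : G)⁻¹ = δ.1 := Subtype.ext_iff

theorem fix_iff {x : G} {K : Subgroup G} {m : normalizer (K : Set G)} {γ : Fx x K} :
    m • γ = γ ↔ (m : G) ∈ cent(γ.1) := by rw [smul_eq, mul_inv_eq_iff_eq_mul, mem_cent]; rfl

theorem two [Finite G] {x h : G} (tr : Tr x) (hh : h ∉ cent(x)) {a b : Fx x (cent(x) ⊓ cent(h * x * h⁻¹))}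
    (hab : a ≠ b) : cent(a.1) ⊓ cent(b.1) = cent(x) ⊓ cent(h * x * h⁻¹) ∧
      ∃ g ∈ normalizer ((cent(x) ⊓ cent(h * x * h⁻¹) : Subgroup G) : Set G),
        g * x * g⁻¹ = a.1 ∧ g * (h * x * h⁻¹) * g⁻¹ = b.1 := by
  obtain ⟨g0, e0⟩ := isConj_iff.1 a.2.1
  obtain ⟨g1, e1⟩ := isConj_iff.1 b.2.1
  obtain ⟨c, hc, e⟩ := tr h (g0⁻¹ * g1) hh fun k => hab (Subtype.ext (by
    rw [← e0, ← e1, show g1 * x * g1⁻¹ = g0 * (g0⁻¹ * g1 * x * (g0⁻¹ * g1)⁻¹) * g0⁻¹ by group, (mem_cent.1 k).eq,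
      mul_inv_cancel_right]))
  have k1 : g0 * c * x * (g0 * c)⁻¹ = a.1 := by
    rw [← e0, mul_assoc g0, (mem_cent.1 hc).eq]; group
  have k2 : g0 * c * (h * x * h⁻¹) * (g0 * c)⁻¹ = b.1 := by
    rw [← e1, show g0 * c * (h * x * h⁻¹) * (g0 * c)⁻¹ = g0 * (c * (h * x * h⁻¹) * c⁻¹) * g0⁻¹ by group, e]; group
  have k3 : (cent(x) ⊓ cent(h * x * h⁻¹)).map (MulAut.conj (g0 * c)).toMonoidHom = cent(a.1) ⊓ cent(b.1) := by
    rw [map_inf _ _ _ (MulAut.conj (g0 * c)).injective, ← cent_conj_eq_map, ← cent_conj_eq_map, k1, k2]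
  have k4 : cent(x) ⊓ cent(h * x * h⁻¹) = cent(a.1) ⊓ cent(b.1) := eq_of_le_of_card_ge (le_inf a.2.2 b.2.2) (by
    rw [← k3, card_map_of_injective (MulAut.conj (g0 * c)).injective])
  refine ⟨k4.symm, g0 * c, mem_normalizer_iff.2 fun y => ?_, k1, k2⟩
  conv_rhs => rw [k4, ← k3]
  exact (mem_map_iff_mem (f := (MulAut.conj (g0 * c)).toMonoidHom) (MulAut.conj (g0 * c)).injective).symm

end T3a

open T3a in
theorem jT3a : JT3a.{u} := by
  intro hS G _ _ x h tr hh hc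
  have hx : ∀ γ, cent(x) ⊓ cent(h * x * h⁻¹) ≤ cent(γ) →
      γ ∈ normalizer ((cent(x) ⊓ cent(h * x * h⁻¹) : Subgroup G) : Set G) := fun γ k =>
    centralizer_le_normalizer _ (mem_centralizer_iff.2 fun y hy => mem_cent.1 (k hy))
  let a : Fx x (cent(x) ⊓ cent(h * x * h⁻¹)) := ⟨x, .refl x, inf_le_left⟩
  let b : Fx x (cent(x) ⊓ cent(h * x * h⁻¹)) := ⟨h * x * h⁻¹, isConj_iff.2 ⟨h, rfl⟩, inf_le_right⟩
  have : Nontrivial (Fx x (cent(x) ⊓ cent(h * x * h⁻¹))) := ⟨a, b, fun e =>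
    hh (mem_cent.2 (mul_inv_eq_iff_eq_mul.1 (congrArg Subtype.val e).symm))⟩
  obtain ⟨l, hl, ⟨j, hj⟩, U, hU, h1, h2⟩ := hS (normalizer ((cent(x) ⊓ cent(h * x * h⁻¹) : Subgroup G) : Set G))
    (Fx x (cent(x) ⊓ cent(h * x * h⁻¹))) (fun p q r s hpq hrs => by
      obtain ⟨-, g, hg, e1, e2⟩ := two tr hh hpq
      obtain ⟨-, g', hg', e1', e2'⟩ := two tr hh hrs
      refine ⟨⟨g' * g⁻¹, mul_mem hg' (inv_mem hg)⟩, smul_eq.2 ?_, smul_eq.2 ?_⟩
      · rw [← e1, ← e1']; group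
      · rw [← e2, ← e2']; group)
    fun g p q hpq e1 e2 c => fix_iff.2 (c.2.2 ((two tr hh hpq).1.le ⟨fix_iff.1 e1, fix_iff.1 e2⟩))
  have hn := le_normalizer_map_subtype U
  refine ⟨l, hl, fun e => ⟨j, ?_⟩, U.map (Subgroup.subtype _), hn (hx _ inf_le_left), hn (hx _ inf_le_right),
    mem_map_of_mem _ (h2 ⟨_, mul_mem (inv_mem (hx _ inf_le_right)) (hx _ inf_le_left)⟩ fun c e => ?_), ?_⟩
  · rw [← hj, ← card_isConj]
    exact Nat.card_congr (Equiv.subtypeEquivRight fun γ => by simp [e])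
  · obtain ⟨k, hk⟩ := isConj_iff.1 c.2.1
    exact hc k (hk ▸ mem_cent.1 (fix_iff.1 e))
  · rintro _ ⟨w, hw, rfl⟩
    exact ⟨fix_iff.1 (h1 w hw a), fix_iff.1 (h1 w hw b)⟩

end CL.Rk5
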