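/-
Project RK5 (S3194): the quotient of two conjugates is primary.
-/
import Cfsg.Agent.Rk5.Defs

set_option autoImplicit false

universe u

namespace CL.Rk5

open Subgroup Cfsg CL.Grp CL.Fgs CL.Cit CL.Rk4
open scoped MatrixGroups Classical Pointwise

namespace T3b

variable {G : Type u} [Group G] [Finite G]

theorem le_cent_of_iso {x : G} {r : ℕ} [Fact r.Prime] (hi : Iso x) {R : Subgroup G}
    (hR : IsPGroup r R) (hx : x ∈ R) : R ≤ cent(x) := by
  by_contra hn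
  have hlt : R ⊓ cent(x) < R := lt_of_le_of_ne inf_le_left fun e => hn (e.ge.trans inf_le_right)
  obtain ⟨n, hn1, hn2⟩ := SetLike.exists_of_lt (lt_inf_normalizer_of_isPGroup hR hlt)
  have h1 : n * x * n⁻¹ ∈ R ⊓ cent(x) := (mem_normalizer_iff.1 hn1.2 x).1 ⟨hx, self_mem_cent x⟩
  exact hn2 ⟨hn1.1, mem_cent_iff_conj.2 (hi n (mem_cent'.1 h1.2))⟩

theorem conj_in {x h : G} (hx : (orderOf x).Prime) (hi : Iso x) {L : Subgroup G} (xL : x ∈ L)
    (bL : h * x * h⁻¹ ∈ L) : ∃ c ∈ L, c * (h * x * h⁻¹) * c⁻¹ = x := by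
  have := Fact.mk hx
  have px : IsPiElt {orderOf x} x := fun q hq hd => (Nat.prime_dvd_prime_iff_eq hq hx).1 hd
  obtain ⟨R, hR, hxR⟩ := exists_isSylowIn_ge px.isPGroup_zpowers (zpowers_le.2 xL)
  obtain ⟨c, hc, hle⟩ := hR.exists_conj_le (px.conj h).isPGroup_zpowers (zpowers_le.2 bL)
  have h1 := le_cent_of_iso hi hR.isPGroup (hxR (mem_zpowers x))
    (hle (conj_mem_conj_smul c (mem_zpowers _)))
  have e : c * (h * x * h⁻¹) * c⁻¹ = c * h * x * (c * h)⁻¹ := by group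
  rw [e] at h1
  exact ⟨c, hc, e.trans (hi _ (mem_cent'.1 h1))⟩

end T3b

open T3b in
theorem jT3b : JT3b.{u} := by
  intro G _ _ x h l U hx hi hl nx nb hg hU
  have := Fact.mk hl
  have xL : x ∈ closure {x, h * x * h⁻¹} := subset_closure (by simp)
  have bL : h * x * h⁻¹ ∈ closure {x, h * x * h⁻¹} := subset_closure (by simp)
  obtain ⟨c, cL, hc⟩ := conj_in hx hi xL bL
  generalize h * x * h⁻¹ = β at *
  have LN : closure {x, β} ≤ normalizer (U : Set G) :=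
    (closure_le _).2 (by rintro _ (rfl | rfl); exacts [nx, nb])
  have hz : ∀ w ∈ closure {x, β} ⊓ U, IsPiElt {l}ᶜ w → closure {x, β} ≤ cent(w) := fun w hw hw' => by
    have h1 : w ∈ zpowers (w ^ l) :=
      mem_zpowers_pow_iff.2 ((isPiElt_compl_singleton_iff_coprime hl).1 hw').symm
    have h2 : closure {x, β} ≤ cent(w ^ l) := (closure_le _).2 (by
      rintro _ (rfl | rfl)
      exacts [mem_cent_comm.1 (hU w hw.2).1, mem_cent_comm.1 (hU w hw.2).2])
    exact h2.trans (cent_le_of_mem_zpowers h1)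
  obtain ⟨P, K, hP, -, -⟩ := exists_direct_in (p := l) (C := closure {x, β} ⊓ U) fun y hy hy' => by
    rw [relIndex_eq_one.2 (inf_le_left.trans (hz y hy hy'))]
    exact hl.not_dvd_one
  have hn : ∀ c ∈ closure {x, β}, ∀ w ∈ P, c * w * c⁻¹ ∈ P := fun c hc w hw =>
    (hP _).2 ⟨mem_inf.2 ⟨mul_mem (mul_mem hc ((hP w).1 hw).1.1) (inv_mem hc),
      (mem_normalizer_iff.1 (LN hc) w).1 ((hP w).1 hw).1.2⟩, ((hP w).1 hw).2.conj c⟩
  have gL : β⁻¹ * x ∈ closure {x, β} ⊓ U := mem_inf.2 ⟨mul_mem (inv_mem bL) xL, hg⟩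
  have key : ∀ d ∈ closure {x, β}, d * β * d⁻¹ * β⁻¹ ∈ P := fun d hd => by
    induction hd using closure_induction with
    | mem y hy =>
      rcases hy with rfl | rfl
      · have ha : piPart {l} (β⁻¹ * y) ∈ P := (hP _).2 ⟨piPart_mem gL, isPiElt_piPart _ _⟩
        have hk := mem_cent_iff_conj.1 (mem_cent_comm.1 (hz _ (piPart_mem gL) (isPiElt_piPart _ _) bL))
        have e := piPart_mul_piPart_compl {l} (β⁻¹ * y)
        generalize piPart {l} (β⁻¹ * y) = a at ha e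
        generalize piPart {l}ᶜ (β⁻¹ * y) = k at hk e
        have e1 : y = β * a * k := by rw [mul_assoc, e]; group
        have e2 : y * β * y⁻¹ * β⁻¹ = β * (a * (β * a⁻¹ * β⁻¹)) * β⁻¹ := by
          calc y * β * y⁻¹ * β⁻¹ = β * a * (k * β * k⁻¹) * a⁻¹ * β⁻¹ * β⁻¹ := by rw [e1]; group
            _ = _ := by rw [hk]; group
        rw [e2]
        exact hn _ bL _ (mul_mem ha (hn _ bL _ (inv_mem ha)))
      · simpa using P.one_mem
    | one => simpa using P.one_mem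
    | mul a b ha hb ia ib =>
      have e : a * b * β * (a * b)⁻¹ * β⁻¹ = a * (b * β * b⁻¹ * β⁻¹) * a⁻¹ * (a * β * a⁻¹ * β⁻¹) := by
        group
      rw [e]
      exact mul_mem (hn _ ha _ ib) ia
    | inv a ha ia =>
      have e : a⁻¹ * β * a⁻¹⁻¹ * β⁻¹ = a⁻¹ * (a * β * a⁻¹ * β⁻¹)⁻¹ * a⁻¹⁻¹ := by group
      rw [e]
      exact hn _ (inv_mem ha) _ (inv_mem ia)
  have h1 := hn _ (inv_mem bL) _ (key c cL)
  rw [hc, show β⁻¹ * (x * β⁻¹) * β⁻¹⁻¹ = β⁻¹ * x by group] at h1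
  exact ((hP _).1 h1).2

end CL.Rk5
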