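/-
Simple groups of conjugate type rank five: the combinatorics of five class sizes (job RK5-Tri/Split).
-/
import Cfsg.Agent.Rk5.Defs
import Cfsg.Agent.Rk4.Tri

set_option autoImplicit false

universe u

namespace CL.Rk5

open Subgroup Cfsg CL.Grp CL.Fgs CL.Cit CL.Rk4
open scoped MatrixGroups Classical

open CL.Rk4.Tri in
theorem jTri5 : JTri5.{u} := by
  intro G _ _ h h5 h3
  set N : Set ℕ := {m : ℕ | ∃ x : G, x ∉ center G ∧ m = cs(x)} with hN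
  have mN : ∀ m, m ∈ N ↔ ∃ x : G, x ≠ 1 ∧ cs(x) = m := fun m =>
    ⟨fun ⟨x, hx, e⟩ => ⟨x, fun e' => hx (e' ▸ one_mem _), e.symm⟩, fun ⟨x, hx, e⟩ => ⟨x, h.not_mem_center hx, e.symm⟩⟩
  have hH : {a : ℕ | a ∈ N ∧ ∀ c ∈ N, c ∣ a → c = a} = {a | Hd G a} := by
    ext a
    refine and_congr (mN a) ⟨fun k x hx hd => k _ ((mN _).2 ⟨x, hx, rfl⟩) hd, fun k c hc hd => ?_⟩
    obtain ⟨x, hx, rfl⟩ := (mN c).1 hc
    exact k x hx hd
  rw [hH] at h3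
  by_cases hc : ∃ c, ∀ x : G, x ≠ 1 → Hd G cs(x) ∨ cs(x) = c
  · obtain ⟨c, hc⟩ := hc
    refine Or.inl ⟨c, h, fun v x hv h1 hx hd => ?_, fun s x _ hs hx hd => ?_⟩
    · exact ((hc v (by rintro rfl; simp at hv)).resolve_right h1).2 x hx hd
    · exact (hc x hx).imp (fun h => (h.2 s hs hd).symm) id
  push Not at hc
  obtain ⟨a, ha, ha', -⟩ := hc 0
  obtain ⟨b, hb, hb', hab⟩ := hc cs(a)
  obtain ⟨n₁, h₁, -⟩ := exists_hd ha
  obtain ⟨n₂, h₂, h12⟩ := exists_second_hd h h₁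
  have fN : N.Finite := Set.finite_of_ncard_ne_zero (by omega)
  have sub : {a | Hd G a} ⊆ N := fun m hm => (mN m).2 hm.1
  have c1 := Set.ncard_sdiff_add_ncard_of_subset sub fN
  have c2 : 2 ≤ (N \ {a | Hd G a}).ncard := by
    rw [← Set.ncard_pair hab]
    refine Set.ncard_le_ncard ?_ fN.sdiff
    rintro m (rfl | rfl)
    exacts [⟨(mN _).2 ⟨b, hb, rfl⟩, hb'⟩, ⟨(mN _).2 ⟨a, ha, rfl⟩, ha'⟩]
  have s2 : ({n₂, n₁} : Set ℕ) ⊆ {a | Hd G a} := by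
    rintro m (rfl | rfl)
    exacts [h₂, h₁]
  have c3 : 2 ≤ {a | Hd G a}.ncard := Set.ncard_pair h12 ▸ Set.ncard_le_ncard s2 (fN.subset sub)
  have e2 : ({n₂, n₁} : Set ℕ) = {a | Hd G a} :=
    Set.eq_of_subset_of_ncard_le s2 (by rw [Set.ncard_pair h12]; omega) (fN.subset sub)
  obtain ⟨p, q, r, -, -, -, e3⟩ := Set.ncard_eq_three.1 (show (N \ {a | Hd G a}).ncard = 3 by omega)
  have hd2 : ∀ m, Hd G m → m = n₁ ∨ m = n₂ := fun m hm => by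
    have : m ∈ ({n₂, n₁} : Set ℕ) := e2 ▸ hm
    exact this.symm
  refine Or.inr ⟨n₁, n₂, p, q, r, ⟨h, h₁.1, h₂.1, h₁.2, h₂.2, fun x hx => ?_⟩, fun x hx => ?_⟩
  · obtain ⟨m, hm, hd⟩ := exists_hd hx
    rcases hd2 m hm with rfl | rfl
    exacts [.inl hd, .inr hd]
  · by_cases k : Hd G cs(x)
    · exact (hd2 _ k).imp_right .inl
    · have : cs(x) ∈ ({p, q, r} : Set ℕ) := e3 ▸ ⟨(mN _).2 ⟨x, hx, rfl⟩, k⟩
      exact .inr (.inr this)

theorem jSplit5 : JSplit5.{u} := by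
  intro G _ _ n₁ n₂ a b c h h5 hG h2
  have l1 := h.lt₁
  have l2 := h.lt₂
  by_cases H : ∃ d, ∀ z : G, z ≠ 1 → n₁ ∣ cs(z) → cs(z) = n₁ ∨ cs(z) = d
  · obtain ⟨d, f2⟩ := H
    have f1 : ∀ z : G, z ≠ 1 → 2 ∣ orderOf z → n₁ ∣ cs(z) := fun z hz hd =>
      (h.below z hz).resolve_right fun hk => absurd (Nat.eq_one_of_dvd_coprimes h.cop
        ((hd.trans (orderOf_dvd_card_cent z)).trans (card_cent_dvd hG hk)) h2) (by norm_num)
    refine .inl ⟨d, h.nas, fun v x hv hc hx hd => ?_, fun s x hs hs1 hx hd => ?_⟩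
    · have hv1 : v ≠ 1 := fun e => by rw [e, orderOf_one] at hv; omega
      have e := (f2 v hv1 (f1 v hv1 hv.symm.dvd)).resolve_right hc
      rw [e] at hd ⊢
      exact h.head₁ x hx hd
    · have hm := Nat.minFac_prime (mt orderOf_eq_one_iff.1 hs1)
      have h3 : (orderOf s).minFac = 2 := hs _ hm (Nat.minFac_dvd _)
      refine (f2 x hx ((f1 s hs1 (h3 ▸ Nat.minFac_dvd _)).trans hd)).imp_left fun e => ?_
      rw [e] at hd ⊢
      exact (h.head₁ s hs1 hd).symm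
  push Not at H
  obtain ⟨z₁, o1, d1, e1, -⟩ := H 0
  obtain ⟨z₂, o2, d2, e2, e12⟩ := H cs(z₁)
  have n2 : ∀ z : G, n₁ ∣ cs(z) → cs(z) ≠ n₂ := fun z hd e =>
    l1.ne' (Nat.eq_one_of_dvd_coprimes h.cop dvd_rfl (e ▸ hd))
  have k1 := h5 z₁ o1
  have k2 := h5 z₂ o2
  have m1 := n2 z₁ d1
  have m2 := n2 z₂ d2
  obtain ⟨d, hd⟩ : ∃ d, ∀ m, m = a ∨ m = b ∨ m = c → m = cs(z₁) ∨ m = cs(z₂) ∨ m = d := by
    by_cases ka : a = cs(z₁) ∨ a = cs(z₂)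
    · by_cases kb : b = cs(z₁) ∨ b = cs(z₂)
      · exact ⟨c, fun m hm => by omega⟩
      · exact ⟨b, fun m hm => by omega⟩
    · exact ⟨a, fun m hm => by omega⟩
  refine .inr ⟨d, h, hG, h2, fun z hz hk => ?_⟩
  have nd : ¬ n₁ ∣ cs(z) := fun h1 => hz (orderOf_eq_one_iff.1 (Nat.dvd_one.1 ((orderOf_dvd_card_cent z).trans
    (card_cent_dvd (m := 1) (by rw [hG, one_mul]) (h.cop.mul_dvd_of_dvd_of_dvd h1 hk)))))
  rcases h5 z hz with e | e | e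
  · exact absurd e.symm.dvd nd
  · exact .inl e
  · rcases hd _ e with e | e | e
    exacts [absurd (e ▸ d1) nd, absurd (e ▸ d2) nd, .inr e]

end CL.Rk5
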