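/-
S3194, job M5: in the configuration `H2P` with five class sizes the group has order `n₁ * n₂`.
-/
import Cfsg.Agent.Rk5.Defs

set_option autoImplicit false

universe u

namespace CL.Rk5

open Subgroup Cfsg CL.Grp CL.Fgs CL.Cit CL.Rk4

namespace M5

variable {G : Type u} [Group G] [Finite G] {n₁ n₂ a b c m l : ℕ}

theorem elt (h : H2P G n₁ n₂) (hm : Nat.card G = m * (n₁ * n₂)) (hl : l.Prime) (hlm : l ∣ m)
    {x y : G} (hx : cs(x) = n₁) (hy : cs(y) = n₂) :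
    ∃ u : G, IsPiElt {l} u ∧ u ≠ 1 ∧ Commute u x ∧ Commute u y := by
  have e := (cent(x) ⊓ cent(y)).card_mul_index
  rw [CL.Fgs.index_inf_of_coprime (by rw [hx, hy]; exact h.cop), hx, hy, hm] at e
  have e' := Nat.eq_of_mul_eq_mul_right (Nat.mul_pos (hx ▸ cs_pos x) (hy ▸ cs_pos y)) e
  obtain ⟨u, hu, h1, h2⟩ := ito_exists_elt hl (e' ▸ hlm)
  exact ⟨u, h1, h2, mem_cent.1 hu.1, mem_cent.1 hu.2⟩

theorem alt (h : H2P G n₁ n₂) (hm : Nat.card G = m * (n₁ * n₂)) {u x y : G} (hu : IsPiElt {l} u)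
    (hu1 : u ≠ 1) (hs : (orderOf y).Prime) (hl : l ≠ orderOf y) (hx : cs(x) = n₁) (hy : cs(y) = n₂)
    (hux : Commute u x) (huy : Commute u y) (H : ∀ z : G, z ≠ 1 → cs(z) ≠ n₂ → n₁ ∣ cs(z)) :
    orderOf y ∣ m := by
  have ho := ito_coprime hl hu (ito_piElt_of_orderOf hs rfl).1
  have d1 := cs_dvd_cs_mul_of_coprime huy ho
  have d2 := cs_dvd_cs_mul_of_coprime' huy ho
  rw [hy] at d2
  have d3 := H _ (mul_ne_one_of_coprime hu1 huy ho) fun e =>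
    h.ncomm x u hx (h.head₂ u hu1 (e ▸ d1)) hux.symm
  exact (orderOf_dvd_natCard _ (mem_cent.2 (huy.symm.mul_right (Commute.refl y)))).trans
    (card_cent_dvd hm (h.cop.mul_dvd_of_dvd_of_dvd d3 d2))

theorem step1 (h : H2P G n₁ n₂) (hX : LX5 G n₁ n₂) (hm : Nat.card G = m * (n₁ * n₂)) (h1 : m ≠ 1)
    {x y : G} (hr : (orderOf x).Prime) (hs : (orderOf y).Prime) (hx : cs(x) = n₁) (hy : cs(y) = n₂) :
    orderOf y ∣ m ∨ orderOf x ∣ m := by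
  have hl := Nat.minFac_prime h1
  have hlm := Nat.minFac_dvd m
  by_cases e1 : orderOf x = m.minFac
  · exact .inr (e1 ▸ hlm)
  by_cases e2 : orderOf y = m.minFac
  · exact .inl (e2 ▸ hlm)
  obtain ⟨u, hu, hu1, hux, huy⟩ := elt h hm hl hlm hx hy
  rcases hX with H | H | H
  · exact (H _ u x y hl hu hu1 hr hs e1 e2 hx hy hux huy).elim
  · exact .inl (alt h hm hu hu1 hs (Ne.symm e2) hx hy hux huy H)
  · exact .inr (alt h.symm (by rw [hm, mul_comm n₁]) hu hu1 hr (Ne.symm e1) hy hx huy hux H)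

theorem pigeon {A B C Z : ℕ} (h1 : A = a ∨ A = b ∨ A = c) (h2 : B = a ∨ B = b ∨ B = c)
    (h3 : C = a ∨ C = b ∨ C = c) (h4 : Z = a ∨ Z = b ∨ Z = c) (e1 : A ≠ B) (e2 : A ≠ C) (e3 : B ≠ C)
    (e4 : Z ≠ B) (e5 : Z ≠ C) : Z = A := by
  rcases h1 with h1 | h1 | h1 <;> rcases h2 with h2 | h2 | h2 <;> rcases h3 with h3 | h3 | h3 <;>
    rcases h4 with h4 | h4 | h4 <;> first
      | exact h4.trans h1.symm | exact absurd (h1.trans h2.symm) e1 | exact absurd (h1.trans h3.symm) e2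
      | exact absurd (h2.trans h3.symm) e3 | exact absurd (h4.trans h2.symm) e4 | exact absurd (h4.trans h3.symm) e5

omit [Finite G] in
theorem star (h : H2P G n₁ n₂) (hF : Five G n₁ n₂ a b c) {w w' v z : G} (hw : w ≠ 1) (w1 : ¬ n₁ ∣ cs(w))
    (w2 : cs(w) ≠ n₂) (hw' : w' ≠ 1) (w3 : ¬ n₂ ∣ cs(w')) (w4 : cs(w') ≠ n₁) (hv : n₁ * n₂ ∣ cs(v))
    (hz : z ≠ 1) (z1 : ¬ n₁ ∣ cs(z)) : cs(z) = n₂ ∨ cs(z) = cs(w) := by
  have l1 := h.lt₁
  have l2 := h.lt₂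
  have v1 : n₁ ∣ cs(v) := (Dvd.intro _ rfl).trans hv
  have v2 : n₂ ∣ cs(v) := (Dvd.intro_left _ rfl).trans hv
  have hv1 : v ≠ 1 := by
    rintro rfl
    rw [cs_one, Nat.dvd_one] at v1
    omega
  have w5 := (h.below w' hw').resolve_right w3
  have a1 : cs(v) ≠ n₁ := fun e => l2.ne' (Nat.eq_one_of_dvd_coprimes h.cop (e ▸ v2) dvd_rfl)
  have a2 : cs(v) ≠ n₂ := fun e => l1.ne' (Nat.eq_one_of_dvd_coprimes h.cop dvd_rfl (e ▸ v1))
  have a3 : cs(w) ≠ n₁ := fun e => w1 (e ▸ dvd_rfl)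
  have a4 : cs(w') ≠ n₂ := fun e => w3 (e ▸ dvd_rfl)
  have a5 : cs(z) ≠ n₁ := fun e => z1 (e ▸ dvd_rfl)
  have a6 : cs(w) ≠ cs(w') := fun e => w1 (e ▸ w5)
  have a7 : cs(w) ≠ cs(v) := fun e => w1 (e ▸ v1)
  have a8 : cs(w') ≠ cs(v) := fun e => w3 (e ▸ v2)
  have a9 : cs(z) ≠ cs(w') := fun e => z1 (e ▸ w5)
  have a10 : cs(z) ≠ cs(v) := fun e => z1 (e ▸ v1)
  exact (hF z hz).elim (fun e => absurd e a5) fun b4 => b4.imp_right fun b4 =>
    pigeon (((hF w hw).resolve_left a3).resolve_left w2) (((hF w' hw').resolve_left w4).resolve_left a4)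
      (((hF v hv1).resolve_left a1).resolve_left a2) b4 a6 a7 a8 a9 a10

theorem step2 (h : H2P G n₁ n₂) (hX : LX G n₁ n₂) (hm : Nat.card G = m * (n₁ * n₂)) {x w : G} {s : ℕ}
    (hr : (orderOf x).Prime) (hx : cs(x) = n₁) (hs : s.Prime) (hs1 : s ∣ n₁) (hsm : s ∣ m)
    (hw : w ≠ 1) (hws : IsPiElt {s} w) (hwx : Commute w x) (w2 : cs(w) ≠ n₂)
    (st : ∀ z : G, z ≠ 1 → ¬ n₁ ∣ cs(z) → cs(z) = n₂ ∨ cs(z) = cs(w)) : False := by
  have hr2 := h.ord₁ x _ hx hr dvd_rfl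
  have ne : ∀ q : ℕ, q ∣ n₁ → orderOf x ≠ q := fun q hq e =>
    hr.one_lt.ne' (Nat.eq_one_of_dvd_coprimes h.cop (e ▸ hq) hr2)
  have os : ∀ y : G, (orderOf y).Prime → cs(y) = n₂ → orderOf y = s := fun y h1 hy => by
    by_contra e
    obtain ⟨u, hu, hu1, hux, huy⟩ := elt h hm hs hsm hx hy
    exact hX s u x y hs hu hu1 hr h1 (ne s hs1) e hx hy hux huy
  obtain ⟨p, hp, hps, hp1⟩ := h.two₁ s
  have hpm : ¬ p ∣ m := fun d => by
    obtain ⟨y, h1, hy⟩ := h.exp₂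
    obtain ⟨u, hu, hu1, hux, huy⟩ := elt h hm hp d hx hy
    exact hX p u x y hp hu hu1 hr h1 (ne p hp1) (os y h1 hy ▸ hps.symm) hx hy hux huy
  have ss : ∀ g z : G, orderOf z = p → Commute z g → ¬ n₁ ∣ cs(g) := fun g z hz hc d => by
    have d1 : Nat.card cent(g) ∣ m * n₂ := card_cent_dvd (by rw [hm]; ring) d
    rcases hp.dvd_mul.1 ((hz ▸ orderOf_dvd_natCard _ (mem_cent.2 hc)).trans d1) with e | e
    · exact hpm e
    · exact hp.one_lt.ne' (Nat.eq_one_of_dvd_coprimes h.cop hp1 e)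
  have := Fact.mk hp
  have hpG : p ∣ Nat.card G := hp1.trans (hx ▸ cs_dvd_card x)
  obtain ⟨P⟩ : Nonempty (Sylow p G) := inferInstance
  obtain ⟨z, -, hz, hP⟩ := ito_exists_central P.isPGroup' (ito_sylow_ne_bot hpG P)
  have z1 : ¬ p ∣ cs(w) := by
    rcases st z (ito_piElt_of_orderOf hp hz).2 (ss z z hz (Commute.refl z)) with e | e
    · exact absurd (hz.symm.trans (os z (hz ▸ hp) e)) hps
    · exact e ▸ not_dvd_cs_iff.2 ⟨P, hP⟩
  rw [← card_cent_mul_cs w] at hpG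
  obtain ⟨⟨v, hv⟩, ho⟩ := exists_prime_orderOf_dvd_card' p ((hp.dvd_mul.1 hpG).resolve_right z1)
  rw [Subgroup.orderOf_mk] at ho
  have hc : Commute w v := mem_cent'.1 hv
  have co := ito_coprime hps.symm hws (ito_piElt_of_orderOf hp ho).1
  have ec := cent_mul_of_coprime hc co
  have e1 : cs(w * v) = cs(w) := (st _ (mul_ne_one_of_coprime hw hc co)
    (ss _ v ho (hc.symm.mul_right (Commute.refl v)))).resolve_left fun e =>
      w2 (h.head₂ w hw (e ▸ cs_dvd_cs_mul_of_coprime hc co))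
  have e2 := cent_eq_of_le_of_cs_le (x := w * v) (y := w) (ec ▸ inf_le_left) e1.le
  have hxv : x ∈ cent(w) ⊓ cent(v) := by rw [← ec, e2]; exact mem_cent'.2 hwx
  have hc2 : Commute v x := mem_cent'.1 hxv.2
  refine ss (v * x) v ho ((Commute.refl v).mul_right hc2) (hx ▸ cs_dvd_cs_mul_of_coprime' hc2 ?_)
  rw [ho]
  exact (Nat.coprime_primes hp hr).2 (ne p hp1).symm

end M5

theorem jM5 : JM5.{u} := by
  intro hT G _ _ n₁ n₂ a b c h hF hX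
  obtain ⟨x, hr, hx⟩ := h.exp₁
  obtain ⟨y, hs, hy⟩ := h.exp₂
  have d := (cent(x) ⊓ cent(y)).index_dvd_card
  rw [CL.Fgs.index_inf_of_coprime (by rw [hx, hy]; exact h.cop), hx, hy] at d
  obtain ⟨m, hm⟩ := d
  rw [mul_comm] at hm
  by_cases h1 : m = 1
  · rw [hm, h1, one_mul]
  have hm' : Nat.card G = m * (n₂ * n₁) := by rw [hm, mul_comm n₁]
  have hsm : orderOf y ∣ m := (M5.step1 h hX hm h1 hr hs hx hy).elim id fun e =>
    (hT G n₂ n₁ m h.symm hm' y x hs hr hy hx e).1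
  obtain ⟨hrm, w, hw, hws, hwx, w1, w2, w3⟩ := hT G n₁ n₂ m h hm x y hr hs hx hy hsm
  obtain ⟨-, w', hw', -, -, w4, w5, -⟩ := hT G n₂ n₁ m h.symm hm' y x hs hr hy hx hrm
  rcases hX with H | H | H
  · exact (M5.step2 h H hm hr hx hs (h.ord₂ y _ hy hs dvd_rfl) hsm hw hws hwx w2 fun z hz z1 =>
      M5.star h hF hw w1 w2 hw' w4 w5 w3 hz z1).elim
  · exact absurd (H w hw w2) w1
  · exact absurd (H w' hw' w5) w4

end CL.Rk5
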