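/-
Rank five project: `PSp₄(2ⁿ)` has six different centralizer orders.
-/
import Cfsg.Agent.Rk5.Defs
import Cfsg.Agent.Known.SpecS4

set_option autoImplicit false

universe u

namespace CL.Rk5

open Subgroup Cfsg CL.Grp CL.Fgs CL.Cit CL.Rk4
open scoped MatrixGroups Classical

namespace S6

theorem key {G : Type*} [Group G] [Finite G] {x y : G} (hx : ¬ 2 ∣ cs(x)) (hy : orderOf y = 4) :
    orderOf x ∣ Nat.card cent(y) := by
  obtain ⟨P, hP⟩ := exists_isSylowIn 2 cent(x)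
  have hP' : IsSylowIn 2 P ⊤ := ⟨le_top, hP.isPGroup, fun h => by
    rw [relIndex_top_right, ← relIndex_mul_index hP.le] at h
    exact (Nat.prime_two.dvd_mul.1 h).elim hP.not_dvd hx⟩
  obtain ⟨g, -, hg⟩ := hP'.exists_conj_le (U := zpowers y)
    (IsPGroup.of_card (n := 2) (by rw [Nat.card_zpowers, hy]; rfl)) le_top
  have h1 := mem_centralizer_singleton_iff.1 (hP.le (hg (conj_mem_conj_smul g (mem_zpowers y))))
  have h2 : g⁻¹ * x * g ∈ cent(y) := mem_centralizer_singleton_iff.2 (by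
    calc g⁻¹ * x * g * y = g⁻¹ * (x * (g * y * g⁻¹)) * g := by group
      _ = _ := by rw [← h1]; group)
  have h3 : orderOf (g⁻¹ * x * g) = orderOf x := by
    simpa using (MulAut.conj g⁻¹).orderOf_eq x
  exact h3 ▸ Subgroup.orderOf_dvd_natCard _ h2

theorem rank6_of_spec {G : Type*} [Group G] [Finite G] {a : ℕ} (ha : 3 ≤ a) (ho : ¬ 2 ∣ a)
    (H : ∀ m : ℕ, (∃ g : G, orderOf g = m) ↔
      m ∣ a * (a + 2) ∨ m ∣ a * (a + 2) + 2 ∨ m ∣ 2 * a ∨ m ∣ 2 * (a + 2) ∨ m ∣ 4) {t : G} {l : ℕ}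
    (ht : orderOf t = 2) (hc : ¬ 2 ∣ cs(t)) (hl : l.Prime) (hl2 : l ≠ 2) (hd : l ∣ Nat.card cent(t)) : Rank6 G := by
  have ho2 : ¬ 2 ∣ a + 2 := by omega
  have hoP : ¬ 2 ∣ a * (a + 2) := fun h => (Nat.prime_two.dvd_mul.1 h).elim ho ho2
  have hoQ : ¬ 2 ∣ a * (a + 2) + 2 := by omega
  have hP : 3 * (a + 2) ≤ a * (a + 2) := Nat.mul_le_mul_right _ ha
  -- large numbers are not element orders
  have big : ∀ g : G, orderOf g ≤ a * (a + 2) + 2 := fun g => by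
    rcases (H _).1 ⟨g, rfl⟩ with h | h | h | h | h <;> have := Nat.le_of_dvd (by omega) h <;> omega
  have bigE : ∀ g : G, 2 ∣ orderOf g → orderOf g ≤ 2 * (a + 2) := fun g h2 => by
    rcases (H _).1 ⟨g, rfl⟩ with h | h | h | h | h
    · exact absurd (h2.trans h) hoP
    · exact absurd (h2.trans h) hoQ
    all_goals have := Nat.le_of_dvd (by omega) h; omega
  have big4 : ∀ g : G, 4 ∣ orderOf g → orderOf g ≤ 4 := fun g h4 => by
    have h2 : 2 ∣ orderOf g := Dvd.dvd.trans (by norm_num) h4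
    rcases (H _).1 ⟨g, rfl⟩ with h | h | h | h | h
    · exact absurd (h2.trans h) hoP
    · exact absurd (h2.trans h) hoQ
    · have := h4.trans h; omega
    · have := h4.trans h; omega
    · exact Nat.le_of_dvd (by omega) h
  obtain ⟨x₁, h₁⟩ := (H 4).2 (by simp)
  obtain ⟨x₂, h₂⟩ := (H (2 * (a + 2))).2 (by simp)
  obtain ⟨x₃, h₃⟩ := (H (2 * a)).2 (by simp)
  obtain ⟨x₄, h₄⟩ := (H (a * (a + 2))).2 (by simp)
  obtain ⟨x₅, h₅⟩ := (H (a * (a + 2) + 2)).2 (by simp)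
  obtain ⟨s, hs, hsa⟩ := Nat.exists_prime_and_dvd (n := a) (by omega)
  obtain ⟨r, hr, hra⟩ := Nat.exists_prime_and_dvd (n := a + 2) (by omega)
  have hs2 : ¬ s ∣ 2 := fun h => ho ((Nat.prime_dvd_prime_iff_eq hs Nat.prime_two).1 h ▸ hsa)
  have hr2 : ¬ r ∣ 2 := fun h => ho2 ((Nat.prime_dvd_prime_iff_eq hr Nat.prime_two).1 h ▸ hra)
  have d₁ := orderOf_dvd_card_cent x₁
  have d₂ := orderOf_dvd_card_cent x₂
  have d₃ := orderOf_dvd_card_cent x₃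
  have d₄ := orderOf_dvd_card_cent x₄
  rw [h₁] at d₁
  rw [h₂] at d₂
  rw [h₃] at d₃
  rw [h₄] at d₄
  have e₁ : 2 ∣ Nat.card cent(x₁) := Dvd.dvd.trans (by norm_num) d₁
  have e₂ : 2 ∣ Nat.card cent(x₂) := (dvd_mul_right _ _).trans d₂
  have e₃ : 2 ∣ Nat.card cent(x₃) := (dvd_mul_right _ _).trans d₃
  have o₄ : ¬ 2 ∣ Nat.card cent(x₄) := fun h => by
    obtain ⟨g, hg⟩ := exists_orderOf_mul Nat.prime_two h (h₄ ▸ hoP)
    have := big g
    omega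
  have o₅ : ¬ 2 ∣ Nat.card cent(x₅) := fun h => by
    obtain ⟨g, hg⟩ := exists_orderOf_mul Nat.prime_two h (h₅ ▸ hoQ)
    have := big g
    omega
  have n₁ : ∀ t : ℕ, t.Prime → ¬ t ∣ 2 → ¬ t ∣ Nat.card cent(x₁) := fun t ht h2 h => by
    obtain ⟨g, hg⟩ := exists_orderOf_mul ht h (by
      rw [h₁]; exact fun h' => h2 (ht.dvd_of_dvd_pow (n := 2) h'))
    rw [h₁] at hg
    have := big4 g (hg ▸ dvd_mul_left _ _)
    have := ht.two_le
    omega
  have n₂ : ¬ s ∣ Nat.card cent(x₂) := fun h => by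
    obtain ⟨g, hg⟩ := exists_orderOf_mul hs h (by
      rw [h₂]
      exact fun h' => (hs.dvd_mul.1 h').elim hs2 fun h'' => hs2 ((Nat.dvd_add_right hsa).1 h''))
    rw [h₂] at hg
    have h1 := bigE g (hg ▸ (dvd_mul_right 2 _).trans (dvd_mul_left _ _))
    have h2 : 2 * (2 * (a + 2)) ≤ s * (2 * (a + 2)) := Nat.mul_le_mul_right _ hs.two_le
    omega
  have n₅ : ¬ s ∣ Nat.card cent(x₅) := fun h => by
    obtain ⟨g, hg⟩ := exists_orderOf_mul hs h (by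
      rw [h₅]
      exact fun h' => hs2 ((Nat.dvd_add_right (hsa.trans (dvd_mul_right _ _))).1 h'))
    rw [h₅] at hg
    have h1 := big g
    have h2 : 2 * (a * (a + 2) + 2) ≤ s * (a * (a + 2) + 2) := Nat.mul_le_mul_right _ hs.two_le
    omega
  have p₃ : s ∣ Nat.card cent(x₃) := (hsa.trans (dvd_mul_left _ _)).trans d₃
  have p₄ : s ∣ Nat.card cent(x₄) := (hsa.trans (dvd_mul_right _ _)).trans d₄
  have p₂ : r ∣ Nat.card cent(x₂) := (hra.trans (dvd_mul_left _ _)).trans d₂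
  have ne : ∀ x : G, 1 < orderOf x → x ≠ 1 := fun x h e => by
    rw [e, orderOf_one] at h
    exact lt_irrefl _ h
  refine rank6_of (ne x₁ (by omega)) (ne x₂ (by omega)) (ne x₃ (by omega)) (ne x₄ (by omega))
    (ne x₅ (by omega)) (ne t (by omega)) ?_
  have e₆ : 2 ∣ Nat.card cent(t) := ht ▸ orderOf_dvd_card_cent t
  have cs' : ∀ x : G, Nat.card cent(x) = Nat.card cent(t) → orderOf x ∣ Nat.card cent(x₁) := fun x e => by
    refine key ?_ h₁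
    have e1 := cent(x).card_mul_index.trans cent(t).card_mul_index.symm
    rw [e] at e1
    exact Nat.eq_of_mul_eq_mul_left Nat.card_pos e1 ▸ hc
  have q₁₆ : Nat.card cent(x₁) ≠ Nat.card cent(t) := fun e =>
    n₁ l hl (fun h => hl2 ((Nat.prime_dvd_prime_iff_eq hl Nat.prime_two).1 h)) (e ▸ hd)
  have q₂₆ : Nat.card cent(x₂) ≠ Nat.card cent(t) := fun e =>
    n₁ r hr hr2 ((hra.trans (dvd_mul_left _ 2)).trans (h₂ ▸ cs' _ e))
  have q₃₆ : Nat.card cent(x₃) ≠ Nat.card cent(t) := fun e =>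
    n₁ s hs hs2 ((hsa.trans (dvd_mul_left _ 2)).trans (h₃ ▸ cs' _ e))
  have q₁₂ : Nat.card cent(x₁) ≠ Nat.card cent(x₂) := fun e => n₁ r hr hr2 (e ▸ p₂)
  have q₁₃ : Nat.card cent(x₁) ≠ Nat.card cent(x₃) := fun e => n₁ s hs hs2 (e ▸ p₃)
  have q₂₃ : Nat.card cent(x₂) ≠ Nat.card cent(x₃) := fun e => n₂ (e ▸ p₃)
  have q₄₅ : Nat.card cent(x₄) ≠ Nat.card cent(x₅) := fun e => n₅ (e ▸ p₄)
  simp only [List.nodup_cons, List.mem_cons, List.not_mem_nil, or_false, not_or, not_false_eq_true,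
    List.nodup_nil, and_true]
  refine ⟨⟨q₁₂, q₁₃, ?_, ?_, q₁₆⟩, ⟨q₂₃, ?_, ?_, q₂₆⟩, ⟨?_, ?_, q₃₆⟩, ⟨q₄₅, ?_⟩, ?_⟩ <;> omega

end S6

theorem jS6 : JS6 := by
  intro hA F _ _ n hn hF
  obtain ⟨t, l, ht, hc, hl, hl2, hd⟩ := hA F n hn hF
  have : Fact (Nat.Prime 2) := ⟨Nat.prime_two⟩
  have : CharP F 2 := charP_of_card_eq_prime_pow hF
  have h := CL.Cls.SpS.eq_S4 (CL.Cls.spS_PSp (F := F) 2 (n := 2) two_ne_zero)
  obtain ⟨k, rfl⟩ := Nat.exists_eq_add_of_le' hn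
  have hk : 0 < 2 ^ k := by positivity
  obtain ⟨a, ha⟩ : ∃ a, Fintype.card F = a + 1 := ⟨Fintype.card F - 1, by rw [hF, pow_add]; omega⟩
  have ha' : a + 1 = 4 * 2 ^ k := by rw [← ha, hF, pow_add]; omega
  have e1 : (a + 1) ^ 2 - 1 = a * (a + 2) := by
    rw [Nat.sub_eq_iff_eq_add (Nat.one_le_pow _ _ (by omega))]; ring
  have e2 : (a + 1) ^ 2 + 1 = a * (a + 2) + 2 := by ring
  have e3 : (a + 1) % 2 + 1 = 1 := by omega
  refine S6.rank6_of_spec (a := a) (by omega) (by omega) (fun m => ?_) ht hc hl hl2 hd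
  change m ∈ CL.Perm.Spec (PSp 2 F) ↔ _
  rw [h, ha]
  simp only [CL.Cls.S4, Set.mem_ofPred_eq, Bool.exists_bool, CL.Cls.tn_true, CL.Cls.tn_false, e1, e2, e3,
    Nat.div_one, pow_one, Nat.add_sub_cancel, add_assoc a 1 1]
  norm_num
  tauto

end CL.Rk5
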